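import Mathlib.RingTheory.LocalRing.Module
import Mathlib.RingTheory.LocalRing.ResidueField.Ideal
import Mathlib.RingTheory.Flat.Localization
import Mathlib.RingTheory.Flat.EquationalCriterion
import Mathlib.RingTheory.Flat.FaithfullyFlat.Algebra
import Mathlib.RingTheory.TensorProduct.Free
import Mathlib.LinearAlgebra.Matrix.Adjugate
import Mathlib.LinearAlgebra.Dimension.Constructions
import Mathlib.LinearAlgebra.Basis.VectorSpace
import Mathlib.RingTheory.Support

/-!
# Descent of local freeness along injective ring maps surjective on spectra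
-/

set_option autoImplicit false

universe u v w

open TensorProduct

namespace K881.FreeDesc

variable {B : Type u} {C : Type v} [CommRing B] [CommRing C] [Algebra B C]
  {M : Type w} [AddCommGroup M] [Module B M]

/-- the dimension of a fibre computed upstairs -/
theorem finrank_fibre (p : Ideal B) [p.IsPrime] (q : Ideal C) [q.IsPrime]
    (hq : q.comap (algebraMap B C) = p) {n : ℕ} (e : (C ⊗[B] M) ≃ₗ[C] (Fin n → C)) :
    Module.finrank p.ResidueField (p.ResidueField ⊗[B] M) = n := by
  let _ : Algebra p.ResidueField q.ResidueField :=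
    (Ideal.ResidueField.map p q (algebraMap B C) hq.symm).toAlgebra
  have hst : IsScalarTower B p.ResidueField q.ResidueField := .of_algebraMap_eq fun b => by
    change _ = Ideal.ResidueField.map p q (algebraMap B C) hq.symm (algebraMap B p.ResidueField b)
    rw [Ideal.ResidueField.map_algebraMap, ← IsScalarTower.algebraMap_apply]
  have e1 : (q.ResidueField ⊗[p.ResidueField] (p.ResidueField ⊗[B] M)) ≃ₗ[q.ResidueField]
      (q.ResidueField ⊗[B] M) := TensorProduct.AlgebraTensorModule.cancelBaseChange _ _ _ _ _
  have e2 : (q.ResidueField ⊗[C] (C ⊗[B] M)) ≃ₗ[q.ResidueField]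
      (q.ResidueField ⊗[B] M) := TensorProduct.AlgebraTensorModule.cancelBaseChange _ _ _ _ _
  have e3 : (q.ResidueField ⊗[C] (C ⊗[B] M)) ≃ₗ[q.ResidueField] (q.ResidueField ⊗[C] (Fin n → C)) :=
    e.baseChange C q.ResidueField _ _
  have h1 : Module.finrank q.ResidueField (q.ResidueField ⊗[C] (Fin n → C)) = n := by
    rw [Module.finrank_eq_card_basis
      (Algebra.TensorProduct.basis q.ResidueField (Pi.basisFun C (Fin n))), Fintype.card_fin]
  rw [← Module.finrank_baseChange (R := q.ResidueField), e1.finrank_eq, ← e2.finrank_eq,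
    e3.finrank_eq, h1]

/-- a finite module is generated near a prime by lifts of a basis of the fibre -/
theorem exists_map [Module.Finite B M] (p : Ideal B) [p.IsPrime] {n : ℕ}
    (hn : Module.finrank p.ResidueField (p.ResidueField ⊗[B] M) = n) :
    ∃ (φ : (Fin n → B) →ₗ[B] M) (s : B), s ∉ p ∧ ∀ m, s • m ∈ LinearMap.range φ := by
  classical
  set κ := p.ResidueField with hκ
  let ι : M →ₗ[B] κ ⊗[B] M := TensorProduct.mk B κ M 1
  have hs : ⊤ ≤ Submodule.span κ (Set.range ι) := by
    intro z _
    induction z with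
    | zero => exact Submodule.zero_mem _
    | add x y hx hy => exact Submodule.add_mem _ (hx trivial) (hy trivial)
    | tmul a m =>
      have e : a ⊗ₜ[B] m = a • ι m := by
        change _ = a • ((1 : κ) ⊗ₜ[B] m)
        rw [TensorProduct.smul_tmul', smul_eq_mul, mul_one]
      rw [e]
      exact Submodule.smul_mem _ _ (Submodule.subset_span ⟨m, rfl⟩)
  have hsub := Module.Basis.ofSpan_subset hs
  let b0 := Module.Basis.ofSpan hs
  have hfin : Module.Finite κ (κ ⊗[B] M) := inferInstance
  let _ : Fintype ((linearIndepOn_empty κ id).extend (Set.empty_subset (Set.range ι))) :=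
    FiniteDimensional.fintypeBasisIndex b0
  have hcard : Fintype.card ((linearIndepOn_empty κ id).extend
      (Set.empty_subset (Set.range ι))) = n := by
    rw [← Module.finrank_eq_card_basis b0, hn]
  let b := b0.reindex (Fintype.equivFinOfCardEq hcard)
  have hb : ∀ i, ∃ m, ι m = b i := fun i => hsub ⟨_, by rw [Module.Basis.reindex_apply]⟩
  choose m hm using hb
  let φ : (Fin n → B) →ₗ[B] M := Fintype.linearCombination B m
  have hφ : ∀ i, m i ∈ LinearMap.range φ := fun i => ⟨Pi.single i 1, by simp [φ]⟩
  let N := M ⧸ LinearMap.range φ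
  have hsub : Subsingleton (κ ⊗[B] N) := by
    have hsurj : Function.Surjective ((LinearMap.range φ).mkQ.baseChange κ) :=
      LinearMap.lTensor_surjective _ (Submodule.mkQ_surjective _)
    have hzero : (LinearMap.range φ).mkQ.baseChange κ = 0 := by
      refine b.ext fun i => ?_
      rw [← hm, LinearMap.zero_apply]
      change (LinearMap.range φ).mkQ.baseChange κ (1 ⊗ₜ m i) = 0
      rw [LinearMap.baseChange_tmul, Submodule.mkQ_apply, (Submodule.Quotient.mk_eq_zero _).2 (hφ i),
        TensorProduct.tmul_zero]
    refine ⟨fun x y => ?_⟩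
    obtain ⟨x, rfl⟩ := hsurj x
    obtain ⟨y, rfl⟩ := hsurj y
    rw [hzero]
    simp
  have hsupp : (⟨p, inferInstance⟩ : PrimeSpectrum B) ∉ Module.support B N := by
    rw [Module.mem_support_iff_nontrivial_residueField_tensorProduct, not_nontrivial_iff_subsingleton]
    exact hsub
  rw [Module.mem_support_iff_of_finite] at hsupp
  obtain ⟨s, hs1, hs2⟩ := SetLike.not_le_iff_exists.1 hsupp
  refine ⟨φ, s, hs2, fun y => ?_⟩
  rw [Module.mem_annihilator] at hs1
  have h1 := hs1 ((LinearMap.range φ).mkQ y)
  rw [← map_smul] at h1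
  exact (Submodule.Quotient.mk_eq_zero _).1 h1

/-- the kernel of an almost surjective map `Cⁿ → Cⁿ` -/
theorem pow_smul_eq_zero {n : ℕ} (Φ : (Fin n → C) →ₗ[C] (Fin n → C)) (s : C)
    (hs : ∀ y, s • y ∈ LinearMap.range Φ) (v : Fin n → C) (hv : Φ v = 0) : s ^ n • v = 0 := by
  classical
  choose w hw using fun i : Fin n => hs (Pi.single i 1)
  let Ψ : (Fin n → C) →ₗ[C] (Fin n → C) := Fintype.linearCombination C w
  have hΨ : Φ ∘ₗ Ψ = s • LinearMap.id := by
    refine LinearMap.pi_ext fun i c => ?_
    rw [LinearMap.comp_apply, LinearMap.smul_apply, LinearMap.id_apply]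
    have h1 : Ψ (Pi.single i c) = c • w i := by simp [Ψ]
    rw [h1, map_smul, hw]
    have h2 : (Pi.single i c : Fin n → C) = c • Pi.single i 1 := by
      rw [← Pi.single_smul', smul_eq_mul, mul_one]
    rw [h2, smul_comm]
  have h1 := congrArg LinearMap.toMatrix' hΨ
  rw [LinearMap.toMatrix'_comp, map_smul, LinearMap.toMatrix'_id] at h1
  have h2 := congrArg Matrix.det h1
  rw [Matrix.det_mul, Matrix.det_smul, Matrix.det_one, mul_one, Fintype.card_fin] at h2
  have h3 : (LinearMap.toMatrix' Φ).mulVec v = 0 := by
    rw [LinearMap.toMatrix'_mulVec, hv]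
  have h4 : (LinearMap.toMatrix' Φ).det • v = 0 := by
    have h5 := congrArg (Matrix.mulVec (LinearMap.toMatrix' Φ).adjugate) h3
    rw [Matrix.mulVec_mulVec, Matrix.adjugate_mul, Matrix.smul_mulVec, Matrix.one_mulVec,
      Matrix.mulVec_zero] at h5
    exact h5
  rw [← h2, mul_comm, mul_smul, h4, smul_zero]

/-- Descent of flatness for finite modules becoming free. -/
theorem flat (hinj : Function.Injective (algebraMap B C))
    (hsurj : ∀ (p : Ideal B) [p.IsPrime], ∃ q : Ideal C, q.IsPrime ∧ q.comap (algebraMap B C) = p)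
    [Module.Finite B M] {n : ℕ} (e : (C ⊗[B] M) ≃ₗ[C] (Fin n → C)) : Module.Flat B M := by
  classical
  refine Module.flat_of_localized_maximal M fun P hP => ?_
  obtain ⟨q, hq, hqP⟩ := hsurj P
  obtain ⟨φ, s, hsP, hs⟩ := exists_map P (finrank_fibre P q hqP e)
  -- the kernel
  let t : C := algebraMap B C s
  let e0 : (C ⊗[B] (Fin n → B)) ≃ₗ[C] (Fin n → C) :=
    (Algebra.TensorProduct.basis C (Pi.basisFun B (Fin n))).equivFun
  have he0 : ∀ v : Fin n → B, e0 (1 ⊗ₜ v) = fun i => algebraMap B C (v i) := by
    intro v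
    funext i
    simp [e0, Algebra.TensorProduct.basis_repr_tmul]
  let Φ : (Fin n → C) →ₗ[C] (Fin n → C) := e.toLinearMap ∘ₗ φ.baseChange C ∘ₗ e0.symm.toLinearMap
  have hΦ : ∀ y, t • y ∈ LinearMap.range Φ := by
    intro y
    obtain ⟨z, rfl⟩ := e.surjective y
    have h1 : ∀ z : C ⊗[B] M, t • z ∈ LinearMap.range (φ.baseChange C) := by
      intro z
      induction z with
      | zero => rw [smul_zero]; exact Submodule.zero_mem _
      | add a b ha hb => rw [smul_add]; exact Submodule.add_mem _ ha hb
      | tmul c m =>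
        obtain ⟨v, hv⟩ := hs m
        refine ⟨c ⊗ₜ v, ?_⟩
        rw [LinearMap.baseChange_tmul, hv, TensorProduct.smul_tmul', ← TensorProduct.smul_tmul,
          Algebra.smul_def, smul_eq_mul]
    obtain ⟨w, hw⟩ := h1 z
    refine ⟨e0 w, ?_⟩
    change e (φ.baseChange C (e0.symm (e0 w))) = _
    rw [LinearEquiv.symm_apply_apply, hw, map_smul]
  have hker : ∀ v : Fin n → B, φ v = 0 → s ^ n • v = 0 := by
    intro v hv
    have h1 : Φ (e0 (1 ⊗ₜ v)) = 0 := by
      change e (φ.baseChange C (e0.symm (e0 (1 ⊗ₜ v)))) = _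
      rw [LinearEquiv.symm_apply_apply, LinearMap.baseChange_tmul, hv, TensorProduct.tmul_zero,
        map_zero]
    have h2 := pow_smul_eq_zero Φ t hΦ _ h1
    rw [he0] at h2
    funext i
    have h3 := congrFun h2 i
    simp only [Pi.smul_apply, smul_eq_mul, Pi.zero_apply, t, ← map_pow, ← map_mul] at h3 ⊢
    exact hinj (h3.trans (map_zero _).symm)
  -- the localized map
  let S := P.primeCompl
  have hbij : Function.Bijective (LocalizedModule.map S φ) := by
    constructor
    · rw [injective_iff_map_eq_zero]
      intro y hy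
      induction y using LocalizedModule.induction_on with
      | _ v r =>
        rw [LocalizedModule.map_mk, ← LocalizedModule.zero_mk r, LocalizedModule.mk_eq] at hy
        obtain ⟨u, hu⟩ := hy
        rw [smul_zero, smul_zero] at hu
        have h1 : φ (((u : B) * (r : B)) • v) = 0 := by
          rw [map_smul, mul_smul]
          exact hu
        have h2 := hker _ h1
        rw [← LocalizedModule.zero_mk r, LocalizedModule.mk_eq]
        refine ⟨⟨s ^ n * u, S.mul_mem (S.pow_mem hsP n) u.2⟩, ?_⟩
        rw [smul_zero, smul_zero]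
        change (s ^ n * (u : B)) • ((r : B) • v) = 0
        rw [← h2, mul_smul, mul_smul]
    · intro y
      induction y using LocalizedModule.induction_on with
      | _ m r =>
        obtain ⟨v, hv⟩ := hs m
        refine ⟨LocalizedModule.mk v (⟨s, hsP⟩ * r), ?_⟩
        rw [LocalizedModule.map_mk, hv, LocalizedModule.mk_eq]
        refine ⟨1, ?_⟩
        rw [one_smul, one_smul]
        change (r : B) • (s • m) = (s * (r : B)) • m
        rw [← mul_smul, mul_comm]
  have hfl : Module.Flat B (LocalizedModule S (Fin n → B)) := by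
    have h1 : Module.Flat (Localization S) (LocalizedModule S (Fin n → B)) :=
      Module.Flat.of_isLocalizedModule (Localization S) S (LocalizedModule.mkLinearMap S (Fin n → B))
    have h2 : Module.Flat B (Localization S) := IsLocalization.flat _ S
    exact Module.Flat.trans B (Localization S) _
  exact Module.Flat.of_linearEquiv (M := LocalizedModule S (Fin n → B))
    ((LinearEquiv.ofBijective _ hbij).symm.restrictScalars B)

end K881.FreeDesc
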