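import Groth.Agent.LunaSt.K881.OrbFree
import Groth.Agent.LunaSt.K881.FreeDesc
import Groth.Agent.Books.ComodDual
import Groth.Agent.GLin.K765.Coinv

/-!
# The coordinate ring of an affine group is faithfully flat over that of a closed orbit

Any field, any affine group of finite type or not.
* `faithfullyFlat_of_isClosedOrbit`
* `mem_range_of_comul_sub_mem`: functions invariant under the stabiliser.
-/

set_option autoImplicit false
set_option linter.unusedSectionVars false
set_option linter.style.haveILetI false

universe u v w w'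

open TensorProduct HopfRep GLin

namespace K881.OrbFF

open Groth.Agent.Books Groth.Agent.Books.ComodBasic Groth.Agent.Books.ComodHom
open Groth.Agent.Books.ComodInv
open K764.HopfMod TameAct

variable {k : Type u} [Field k] {H : Type v} [CommRing H] [HopfAlgebra k H]

section Sub

variable (B : Subalgebra k H) (hB : IsSubcomod (k := k) (A := H) (Subalgebra.toSubmodule B))

theorem range_val : LinearMap.range B.val.toLinearMap = Subalgebra.toSubmodule B := by
  ext x
  simp

/-- the coaction on a stable subalgebra -/
@[reducible] noncomputable def comodB : Comod k H B :=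
  subC B.val.toLinearMap Subtype.val_injective (by rw [range_val]; exact hB)

theorem isComodHom_val : letI := comodB B hB; IsComodHom k H B.val.toLinearMap :=
  isComodHom_subC _ _ _

theorem rTensor_val_mul (z w : B ⊗[k] H) : B.val.toLinearMap.rTensor H (z * w) =
    B.val.toLinearMap.rTensor H z * B.val.toLinearMap.rTensor H w := by
  have h : ∀ z, B.val.toLinearMap.rTensor H z =
      Algebra.TensorProduct.map B.val (AlgHom.id k H) z := fun z => rfl
  rw [h, h, h, map_mul]

theorem isCoactAlgB : letI := comodB B hB; IsCoactAlg k H B := by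
  letI := comodB B hB
  have hc := isComodHom_val B hB
  have hinj : Function.Injective (B.val.toLinearMap.rTensor H) :=
    Module.Flat.rTensor_preserves_injective_linearMap (M := H) _ Subtype.val_injective
  refine ⟨?_, fun f g => ?_⟩
  · apply hinj
    have h1 := hc (1 : B)
    rw [← h1]
    have h2 : (B.val.toLinearMap (1 : B)) = (1 : H) := rfl
    have h3 : B.val.toLinearMap.rTensor H (1 : B ⊗[k] H) = (1 : H ⊗[k] H) := by
      rw [Algebra.TensorProduct.one_def, LinearMap.rTensor_tmul, h2]
      rfl
    rw [h2, h3]
    exact Bialgebra.comul_one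
  · apply hinj
    rw [rTensor_val_mul, ← hc, ← hc, ← hc]
    exact Bialgebra.comul_mul _ _

/-- the neutral element as a point of the subalgebra -/
noncomputable def pt : B →ₐ[k] k := (Bialgebra.counitAlgHom k H).comp B.val

theorem algebraMap_eq_orbitHom : letI := comodB B hB; letI := isCoactAlgB B hB
    ∀ b : B, algebraMap B H b = orbitHom k H (pt B) b := by
  letI := comodB B hB
  letI := isCoactAlgB B hB
  intro b
  have hc := isComodHom_val B hB b
  rw [K690.Orbits.orbitHom_apply]
  have h1 : ∀ z : B ⊗[k] H, TensorProduct.lid k H ((pt B).toLinearMap.rTensor H z) =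
      TensorProduct.lid k H ((Coalgebra.counit (R := k) (A := H)).rTensor H
        (B.val.toLinearMap.rTensor H z)) := by
    intro z
    induction z with
    | zero => simp
    | add x y hx hy => simp only [map_add, hx, hy]
    | tmul x y => simp [pt]
  rw [h1, ← hc]
  have h2 := Coalgebra.rTensor_counit_comul (R := k) (B.val.toLinearMap b)
  change _ = TensorProduct.lid k H ((Coalgebra.counit (R := k) (A := H)).rTensor H
    (Coalgebra.comul (R := k) (B.val.toLinearMap b)))
  rw [h2]
  simp

theorem isHopfModH : letI := comodB B hB; IsHopfMod k H B H := by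
  letI := comodB B hB
  refine ⟨fun b h => ?_⟩
  have h1 : ∀ (z : B ⊗[k] H) (w : H ⊗[k] H), hmSMul k H B H z w =
      B.val.toLinearMap.rTensor H z * w := by
    intro z w
    induction z with
    | zero => simp
    | add x y hx hy => simp only [map_add, LinearMap.add_apply, add_mul, hx, hy]
    | tmul b a =>
      induction w with
      | zero => simp
      | add x y hx hy => simp only [map_add, mul_add, hx, hy]
      | tmul c d => simp [Algebra.smul_def]
  rw [h1, ← isComodHom_val B hB b]
  exact Bialgebra.comul_mul _ _

include hB in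
/-- stable finite submodules are flat -/
theorem flat_sub (hsurj : ∀ (p : Ideal B) [p.IsPrime], ∃ q : Ideal H, q.IsPrime ∧
    q.comap (algebraMap B H) = p) (P : Submodule B H)
    (hP : IsSubcomod (k := k) (A := H) (P.restrictScalars k)) [Module.Finite B P] :
    Module.Flat B P := by
  letI := comodB B hB
  letI := isCoactAlgB B hB
  letI : IsHopfMod k H B H := isHopfModH B hB
  have hr : LinearMap.range (P.subtype.restrictScalars k) = P.restrictScalars k := by
    ext x
    simp
  letI : Comod k H P := subC (P.subtype.restrictScalars k) Subtype.val_injective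
    (by rw [hr]; exact hP)
  have hc : IsComodHom k H (P.subtype.restrictScalars k) := isComodHom_subC _ _ _
  have : IsHopfMod k H B P := isHopfMod_of_injective (P.subtype.restrictScalars k)
    Subtype.val_injective (fun _ _ => rfl) hc
  obtain ⟨n, ⟨e⟩⟩ := OrbFree.exists_equiv (pt B) (algebraMap_eq_orbitHom B hB) P
  exact FreeDesc.flat (B := B) (C := H) Subtype.val_injective hsurj e

include hB in
/-- flatness over a stable subalgebra -/
theorem flat (hsurj : ∀ (p : Ideal B) [p.IsPrime], ∃ q : Ideal H, q.IsPrime ∧
    q.comap (algebraMap B H) = p) : Module.Flat B H := by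
  classical
  letI := comodB B hB
  letI : IsHopfMod k H B H := isHopfModH B hB
  rw [Module.Flat.iff_forall_isTrivialRelation]
  intro l f x hx
  obtain ⟨W, hW, hWf, hsW⟩ := Groth.Agent.Books.ComodDual.exists_finite_subcomod
    (k := k) (A := H) (V := H) (Finset.univ.image x)
  set P : Submodule B H := Submodule.span B (W : Set H) with hP
  have hWP : ∀ y ∈ W, y ∈ P := fun y hy => Submodule.subset_span hy
  have hPs : IsSubcomod (k := k) (A := H) (P.restrictScalars k) := by
    refine isSubcomod_span (B := B) (W : Set H) rfl fun m hm => ?_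
    exact rng_mono (A := H) (W₁ := W) (W₂ := P.restrictScalars k) hWP (hW m hm)
  have hPf : Module.Finite B P := by
    obtain ⟨s, hs⟩ := Module.Finite.iff_fg.1 hWf
    rw [Module.Finite.iff_fg]
    refine ⟨s, le_antisymm (Submodule.span_le.2 fun y hy => hWP y ?_) (Submodule.span_le.2 ?_)⟩
    · rw [← hs]; exact Submodule.subset_span hy
    · intro y hy
      have hy' : y ∈ Submodule.span k (s : Set H) := by rw [hs]; exact hy
      exact Submodule.span_le_restrictScalars k B (s : Set H) hy'
  have hfl := flat_sub B hB hsurj P hPs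
  let x' : Fin l → P := fun i => ⟨x i, hWP _ (hsW _ (Finset.mem_image_of_mem _ (Finset.mem_univ i)))⟩
  have hx' : ∑ i, f i • x' i = 0 := by
    apply Subtype.ext
    rw [AddSubmonoidClass.coe_finsetSum]
    exact hx
  obtain ⟨n, a, y, h1, h2⟩ := Module.Flat.iff_forall_isTrivialRelation.1 hfl hx'
  refine ⟨n, a, fun j => (y j : H), fun i => ?_, h2⟩
  have h3 := congrArg Subtype.val (h1 i)
  rw [AddSubmonoidClass.coe_finsetSum] at h3
  exact h3

end Sub

section Closed

variable {R : Type w} [CommRing R] [Algebra k R] [Comod k H R] [IsCoactAlg k H R]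

theorem isSubcomod_range (x : R →ₐ[k] k) :
    IsSubcomod (k := k) (A := H) (Subalgebra.toSubmodule (orbitHom k H x).range) :=
  fun _ hb => K765.Coinv.comul_mem_range x hb

theorem exists_prime {x : R →ₐ[k] k} (hx : IsClosedOrbit k H x)
    (q : PrimeSpectrum (orbitHom k H x).range) :
    ∃ p : PrimeSpectrum H, PrimeSpectrum.comap (algebraMap (orbitHom k H x).range H) p = q := by
  let π : R →+* (orbitHom k H x).range := (orbitHom k H x).rangeRestrict.toRingHom
  have hπ : Function.Surjective π := (orbitHom k H x).rangeRestrict_surjective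
  have hcomp : (algebraMap (orbitHom k H x).range H).comp π = (orbitHom k H x).toRingHom := rfl
  have h1 : PrimeSpectrum.comap π q ∈
      Set.range (PrimeSpectrum.comap (orbitHom k H x).toRingHom) := by
    rw [← IsClosed.closure_eq hx, PrimeSpectrum.closure_range_comap]
    intro f hf
    have h2 : π f = 0 := Subtype.ext hf
    change π f ∈ q.asIdeal
    rw [h2]
    exact q.asIdeal.zero_mem
  obtain ⟨p, hp⟩ := h1
  refine ⟨p, ?_⟩
  apply PrimeSpectrum.comap_injective_of_surjective π hπ
  rw [← hp, ← PrimeSpectrum.comap_comp_apply, hcomp]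

/-- `H` is faithfully flat over the coordinate ring of a closed orbit. -/
theorem faithfullyFlat_of_isClosedOrbit {x : R →ₐ[k] k} (hx : IsClosedOrbit k H x) :
    Module.FaithfullyFlat (orbitHom k H x).range H := by
  have : Module.Flat (orbitHom k H x).range H := flat _ (isSubcomod_range x) (by
    intro p hp
    obtain ⟨q, hq⟩ := exists_prime hx ⟨p, hp⟩
    exact ⟨q.asIdeal, q.2, congrArg PrimeSpectrum.asIdeal hq⟩)
  exact Module.FaithfullyFlat.of_comap_surjective (fun q => exists_prime hx q)

open K765.OrbFlat in
/-- functions on a closed orbit are the functions invariant under the stabiliser -/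
theorem mem_range_of_comul_sub_mem {x : R →ₐ[k] k} (hx : IsClosedOrbit k H x) {a : H}
    (ha : Coalgebra.comul (R := k) a - 1 ⊗ₜ[k] a ∈ (stabIdeal k H x).map
      (Algebra.TensorProduct.includeLeft : H →ₐ[k] H ⊗[k] H)) :
    a ∈ (orbitHom k H x).range := by
  have := faithfullyFlat_of_isClosedOrbit (H := H) hx
  set B := (orbitHom k H x).range with hB
  let Φ : H ⊗[k] H →ₐ[k] H ⊗[B] H := (proj B).comp (igal k H)
  have h1 : (stabIdeal k H x).map (Algebra.TensorProduct.includeLeft : H →ₐ[k] H ⊗[k] H) ≤
      RingHom.ker Φ := by
    rw [Ideal.map_le_iff_le_comap, stabIdeal, Ideal.map_le_iff_le_comap]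
    intro f hf
    rw [Ideal.mem_comap, Ideal.mem_comap, RingHom.mem_ker]
    change Φ ((orbitHom k H x f) ⊗ₜ 1) = 0
    have h2 := proj_igal_of_comul_mem B (orbitHom k H x f)
      (K765.Coinv.comul_mem_range x ⟨f, rfl⟩) 1
    refine h2.trans ?_
    rw [K765.Coinv.counit_orbitHom', (RingHom.mem_ker).1 hf, zero_smul]
  have h3 := h1 ha
  rw [RingHom.mem_ker, map_sub, sub_eq_zero] at h3
  have h4 : Φ (Coalgebra.comul (R := k) a) = a ⊗ₜ[B] 1 := by
    change proj B (igal k H (Coalgebra.comul (R := k) a)) = _
    rw [igal_comul, proj_tmul]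
  have h5 : Φ (1 ⊗ₜ a) = 1 ⊗ₜ[B] a := by
    change proj B (igal k H (1 ⊗ₜ a)) = _
    rw [igal_tmul, Bialgebra.comul_one, map_one, one_mul, proj_tmul]
  rw [h4, h5] at h3
  obtain ⟨b, rfl⟩ := exists_of_tmul_eq (B := B) a h3.symm
  exact b.2

end Closed

end K881.OrbFF
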