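import Groth.Agent.LunaSt.K881.Rey
import Groth.Agent.Books.ComodDual
import Mathlib.RingTheory.FiniteType

/-!
# Finite generation of invariants of finitely generated equivariant algebras over a Noetherian base
-/

set_option autoImplicit false

universe u v w w'

open TensorProduct HopfRep

namespace K881.FinInv

open K881.Rey K881.Hilbert

variable {k : Type u} [Field k] {H : Type v} [CommRing H] [HopfAlgebra k H]

/-- invariants of an equivariant finite type algebra over a Noetherian `G`-algebra -/
theorem exists_finset (hG : IsLinearlyReductive k H)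
    (A : Type w) [CommRing A] [Algebra k A] [IsNoetherianRing A]
    [Comod k H A] [GLin.IsCoactAlg k H A]
    (C : Type w') [CommRing C] [Algebra k C] [Comod k H C] [GLin.IsCoactAlg k H C]
    [Algebra A C] [IsScalarTower k A C] [Algebra.FiniteType A C]
    (hAC : Hoch.IsComodHom H (IsScalarTower.toAlgHom k A C).toLinearMap) :
    ∃ s : Finset C, GLin.invariants k H C =
      Algebra.adjoin k (⇑(algebraMap A C) '' ↑(GLin.invariants k H A) ∪ ↑s) := by
  classical
  obtain ⟨α, hα⟩ := exists_nInt hG
  -- a finite-dimensional subcomodule containing generators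
  obtain ⟨s₀, hs₀⟩ := Algebra.FiniteType.out (R := A) (A := C)
  obtain ⟨W, hW, hWf, hsW⟩ := Groth.Agent.Books.ComodDual.exists_finite_subcomod
    (k := k) (A := H) (V := C) (insert 1 s₀)
  have hW1 : (1 : C) ∈ W := hsW 1 (Finset.mem_insert_self _ _)
  have hWs : ∀ c ∈ s₀, c ∈ W := fun c hc => hsW c (Finset.mem_insert_of_mem hc)
  have hbase : IsSubcomod (k := k) (A := H) (base A k C) := isSubcomod_range hAC
  have hfil : ∀ d, IsSubcomod (k := k) (A := H) (fil A W d) := fun d =>
    isSubcomod_mul hbase (isSubcomod_pow hW d)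
  have hex : ∀ c : C, ∃ d, c ∈ fil A W d := by
    intro c
    have hc : c ∈ Algebra.adjoin A (s₀ : Set C) := by rw [hs₀]; trivial
    induction hc using Algebra.adjoin_induction with
    | mem x hx =>
      refine ⟨1, ?_⟩
      rw [fil, pow_one, ← one_mul x]
      exact Submodule.mul_mem_mul one_mem_base (hWs x hx)
    | algebraMap a => exact ⟨0, mem_fil_zero.2 ⟨a, rfl⟩⟩
    | add x y _ _ hx hy =>
      obtain ⟨d, hd⟩ := hx
      obtain ⟨e, he⟩ := hy
      exact ⟨max d e, Submodule.add_mem _ (fil_mono hW1 (le_max_left _ _) hd)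
        (fil_mono hW1 (le_max_right _ _) he)⟩
    | mul x y _ _ hx hy =>
      obtain ⟨d, hd⟩ := hx
      obtain ⟨e, he⟩ := hy
      exact ⟨d + e, fil_mul _ _ _ (Submodule.mul_mem_mul hd he)⟩
  let E : C →ₗ[k] GLin.invariants k H C := LinearMap.codRestrict
    (Subalgebra.toSubmodule (GLin.invariants k H C)) (rey C α) (fun c => rey_mem hα c)
  have hE : ∀ c, ((E c : GLin.invariants k H C) : C) = rey C α c := fun c => rfl
  obtain ⟨s, hs⟩ := exists_finset_adjoin (A := A) W (Module.Finite.iff_fg.1 hWf)
    (GLin.invariants k H C).val E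
    (fun x => Subtype.ext (rey_eq_self hα x.2))
    (fun c x => Subtype.ext (rey_mul' α x.2 c))
    (fun d c hc => rey_mem_of_isSubcomod α _ (hfil d) hc) (fun x => hex x)
  refine ⟨s.image Subtype.val, ?_⟩
  have h1 := congrArg (Subalgebra.map (GLin.invariants k H C).val) hs
  rw [Algebra.map_top, Subalgebra.range_val, AlgHom.map_adjoin] at h1
  refine h1.symm.trans ?_
  rw [Set.image_union, Finset.coe_image]
  congr 2
  ext c
  constructor
  · rintro ⟨⟨x, hx⟩, hx', rfl⟩
    obtain ⟨a, ha⟩ := hx'
    refine ⟨rey A α a, rey_mem hα a, ?_⟩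
    have h2 : (IsScalarTower.toAlgHom k A C).toLinearMap (rey A α a) =
      rey C α ((IsScalarTower.toAlgHom k A C).toLinearMap a) := map_rey α _ hAC a
    have h3 : (IsScalarTower.toAlgHom k A C).toLinearMap a = x := ha
    rw [h3, rey_eq_self hα hx] at h2
    exact h2
  · rintro ⟨a, ha, rfl⟩
    have ha' : Comod.coact (k := k) (A := H) a = a ⊗ₜ[k] (1 : H) := ha
    have h4 : algebraMap A C a ∈ GLin.invariants k H C := by
      have h5 := LinearMap.congr_fun hAC a
      rw [LinearMap.comp_apply, LinearMap.comp_apply, ha', LinearMap.rTensor_tmul] at h5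
      exact h5
    exact ⟨⟨algebraMap A C a, h4⟩, ⟨a, rfl⟩, rfl⟩

end K881.FinInv
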