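import Groth.Agent.LunaSt.K881.Rey
import Groth.Agent.Ega2.CompleteFinite
import Groth.Agent.LoccohA.Chevalley
import Mathlib.RingTheory.Filtration

/-!
# Invariants of a finite equivariant module and the adic topologies
-/

set_option autoImplicit false

universe u v w w'

open TensorProduct HopfRep

namespace K881.Adic

open K881.Rey

variable {k : Type u} [Field k] {H : Type v} [CommRing H] [HopfAlgebra k H]
  {A : Type w} [CommRing A] [Algebra k A] [Comod k H A] [GLin.IsCoactAlg k H A]

section fix

variable (H A)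
variable (M : Type w') [AddCommGroup M] [Module k M] [Module A M] [IsScalarTower k A M] [Comod k H M]
  [TameAct.IsHopfMod k H A M]

/-- the invariants of an equivariant module as a module over the invariant ring -/
noncomputable def fixR : Submodule (GLin.invariants k H A) M where
  carrier := {m | m ∈ fixedPts k H M}
  add_mem' := fun ha hb => (fixedPts k H M).add_mem ha hb
  zero_mem' := (fixedPts k H M).zero_mem
  smul_mem' := by
    rintro ⟨r, hr⟩ m hm
    have hm' : Comod.coact (k := k) (A := H) m = m ⊗ₜ[k] (1 : H) := hm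
    have hr' : Comod.coact (k := k) (A := H) r = r ⊗ₜ[k] (1 : H) := hr
    change Comod.coact (k := k) (A := H) (r • m) = (r • m) ⊗ₜ[k] (1 : H)
    rw [TameAct.IsHopfMod.coact_smul (k := k) (A := H) (B := A), hr', hm', TameAct.hmSMul_tmul,
      mul_one]

variable {M}

theorem mem_fixR {m : M} : m ∈ fixR (k := k) H A M ↔ m ∈ fixedPts k H M := Iff.rfl

theorem finite_fixR {α : H →ₗ[k] k} (hα : NInt α) [IsNoetherianRing A] [Module.Finite A M] :
    Module.Finite (GLin.invariants k H A) (fixR (k := k) H A M) := by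
  classical
  rw [Module.Finite.iff_fg]
  have h1 : (Submodule.span A (fixR (k := k) H A M : Set M)).FG := IsNoetherian.noetherian _
  obtain ⟨T, hT, hT'⟩ := (Submodule.fg_span_iff_fg_span_finset_subset _).1 h1
  refine ⟨T, le_antisymm (Submodule.span_le.2 hT) ?_⟩
  intro x hx
  have h2 : x ∈ Submodule.span A (T : Set M) := hT' ▸ Submodule.subset_span hx
  obtain ⟨f, -, hf⟩ := Submodule.mem_span_finset.1 h2
  have h3 : x = ∑ t ∈ T, rey A α (f t) • t := by
    rw [← rey_eq_self hα hx, ← hf, map_sum]
    exact Finset.sum_congr rfl fun t ht => rey_smul_fixed α (f t) (hT ht)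
  rw [h3]
  refine Submodule.sum_mem _ fun t ht => ?_
  exact Submodule.smul_mem _ (⟨rey A α (f t), rey_mem hα _⟩ : GLin.invariants k H A)
    (Submodule.subset_span ht)

end fix

variable {M : Type w'} [AddCommGroup M] [Module k M] [Module A M] [IsScalarTower k A M] [Comod k H M]
  [TameAct.IsHopfMod k H A M]

variable [IsNoetherianRing A] [IsLocalRing (GLin.invariants k H A)]

/-- separatedness -/
theorem eq_zero {α : H →ₗ[k] k} (hα : NInt α) (m : Ideal A) (hm1 : m ≠ ⊤)
    (hm : IsSubcomod (k := k) (A := H) (m.restrictScalars k)) [Module.Finite A M]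
    {x : M} (hx : x ∈ fixedPts k H M) (hx' : ∀ n : ℕ, x ∈ (m ^ n • ⊤ : Submodule A M)) : x = 0 := by
  have h1 : x ∈ (⨅ i : ℕ, m ^ i • ⊤ : Submodule A M) := Submodule.mem_iInf _ |>.2 hx'
  obtain ⟨r, hr⟩ := (Ideal.mem_iInf_smul_pow_eq_bot_iff m x).1 h1
  let b : GLin.invariants k H A := ⟨rey A α (1 - r), rey_mem hα _⟩
  let c : GLin.invariants k H A := ⟨rey A α r, rey_mem hα _⟩
  have hbc : b + c = 1 := by
    apply Subtype.ext
    change rey A α (1 - r) + rey A α r = 1
    rw [← map_add, sub_add_cancel]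
    exact rey_eq_self hα (GLin.invariants k H A).one_mem
  have hbx : rey A α (1 - r) • x = 0 := by
    rw [← rey_smul_fixed α _ hx, sub_smul, one_smul, hr, sub_self, map_zero]
  have hcm : rey A α r ∈ m := rey_mem_of_isSubcomod α _ hm r.2
  have hc : ¬ IsUnit c := by
    intro hc
    apply hm1
    exact Ideal.eq_top_of_isUnit_mem _ hcm (hc.map (GLin.invariants k H A).val)
  have hb : IsUnit b := by
    rcases IsLocalRing.isUnit_or_isUnit_of_add_one hbc with h | h
    · exact h
    · exact absurd h hc
  have hb' : IsUnit (rey A α (1 - r)) := hb.map (GLin.invariants k H A).val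
  exact (hb'.smul_eq_zero).1 hbx

omit [IsNoetherianRing A] in
theorem maximalIdeal_le {α : H →ₗ[k] k} (hα : NInt α) (m : Ideal A) [hmm : m.IsMaximal]
    (hm : IsSubcomod (k := k) (A := H) (m.restrictScalars k))
    {a : GLin.invariants k H A} (ha : a ∈ IsLocalRing.maximalIdeal (GLin.invariants k H A)) :
    (a : A) ∈ m := by
  by_contra hcon
  obtain ⟨y, i, hi, hyi⟩ := hmm.exists_inv hcon
  have h1 : rey A α y * a + rey A α i = 1 := by
    rw [← rey_mul' α a.2, ← map_add, hyi]
    exact rey_eq_self hα (GLin.invariants k H A).one_mem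
  let y' : GLin.invariants k H A := ⟨rey A α y, rey_mem hα _⟩
  let i' : GLin.invariants k H A := ⟨rey A α i, rey_mem hα _⟩
  have h2 : y' * a + i' = 1 := Subtype.ext h1
  have h3 : i' ∈ IsLocalRing.maximalIdeal (GLin.invariants k H A) := by
    rw [IsLocalRing.mem_maximalIdeal, mem_nonunits_iff]
    intro hc
    apply hmm.ne_top
    exact Ideal.eq_top_of_isUnit_mem _ (rey_mem_of_isSubcomod α _ hm hi)
      (hc.map (GLin.invariants k H A).val)
  have h4 : (1 : GLin.invariants k H A) ∈ IsLocalRing.maximalIdeal (GLin.invariants k H A) := by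
    rw [← h2]
    exact Ideal.add_mem _ (Ideal.mul_mem_left _ _ ha) h3
  exact (Ideal.ne_top_iff_one _).1 (Ideal.IsPrime.ne_top inferInstance) h4

/-- completeness -/
theorem exists_limit {α : H →ₗ[k] k} (hα : NInt α) [IsNoetherianRing (GLin.invariants k H A)]
    [IsAdicComplete (IsLocalRing.maximalIdeal (GLin.invariants k H A)) (GLin.invariants k H A)]
    (m : Ideal A) [hmm : m.IsMaximal]
    (hm : IsSubcomod (k := k) (A := H) (m.restrictScalars k)) [Module.Finite A M]
    (x : ℕ → M) (hx : ∀ n, x n ∈ fixedPts k H M)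
    (hx' : ∀ n, x (n + 1) - x n ∈ (m ^ n • ⊤ : Submodule A M)) :
    ∃ y ∈ fixedPts k H M, ∀ n, y - x n ∈ (m ^ n • ⊤ : Submodule A M) := by
  classical
  have hfin := finite_fixR (k := k) H A (M := M) hα
  have hpre : IsPrecomplete (IsLocalRing.maximalIdeal (GLin.invariants k H A))
      (fixR (k := k) H A M) :=
    Groth.Agent.Ega2.CompleteFinite.isPrecomplete_of_finite _
  let N : ℕ → Submodule (GLin.invariants k H A) (fixR (k := k) H A M) := fun i =>
    ((m ^ i • ⊤ : Submodule A M).restrictScalars (GLin.invariants k H A)).comap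
      (fixR (k := k) H A M).subtype
  have hNmem : ∀ i (z : fixR (k := k) H A M), z ∈ N i ↔ (z : M) ∈ (m ^ i • ⊤ : Submodule A M) :=
    fun i z => Iff.rfl
  have hN : Antitone N := by
    intro i j hij z hz
    rw [hNmem] at hz ⊢
    exact Submodule.smul_mono_left (Ideal.pow_le_pow_right hij) hz
  have hN0 : ⨅ i, N i = ⊥ := by
    rw [eq_bot_iff]
    intro z hz
    rw [Submodule.mem_bot]
    apply Subtype.ext
    exact eq_zero hα m hmm.ne_top hm z.2 fun n => (hNmem n z).1 ((Submodule.mem_iInf _).1 hz n)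
  have hch : ∀ j : ℕ, ∃ n, N n ≤ (IsLocalRing.maximalIdeal (GLin.invariants k H A) ^ j • ⊤ :
      Submodule (GLin.invariants k H A) (fixR (k := k) H A M)) := by
    intro j
    obtain ⟨n, hn⟩ := Groth.Agent.LoccohA.Chevalley.exists_le_iInf_sup_pow_smul N hN j
    rw [hN0, bot_sup_eq] at hn
    exact ⟨n, hn⟩
  choose φ hφ using hch
  let ψ : ℕ → ℕ := fun j => max j ((Finset.range (j + 1)).sup φ)
  have hψ1 : ∀ j, j ≤ ψ j := fun j => le_max_left _ _
  have hψ2 : ∀ j, φ j ≤ ψ j := fun j =>
    (Finset.le_sup (f := φ) (Finset.mem_range.2 (Nat.lt_succ_self j))).trans (le_max_right _ _)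
  have hψm : Monotone ψ := by
    intro i j hij
    refine max_le_max hij (Finset.sup_mono ?_)
    intro l hl
    rw [Finset.mem_range] at hl ⊢
    omega
  let X : ℕ → fixR (k := k) H A M := fun n => ⟨x n, hx n⟩
  have hX : ∀ i j, i ≤ j → X j - X i ∈ N i := by
    intro i j hij
    induction j, hij using Nat.le_induction with
    | base => rw [sub_self]; exact (N i).zero_mem
    | succ j hij ih =>
      have e : X (j + 1) - X i = (X (j + 1) - X j) + (X j - X i) := by abel
      rw [e]
      exact (N i).add_mem (hN hij (hx' j)) ih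
  obtain ⟨L, hL⟩ := IsPrecomplete.prec hpre (f := fun j => X (ψ j)) (fun {i j} hij => by
    rw [SModEq.sub_mem]
    have h1 := hφ i (hN (hψ2 i) (hX _ _ (hψm hij)))
    have e : X (ψ i) - X (ψ j) = - (X (ψ j) - X (ψ i)) := by abel
    rw [e]
    exact Submodule.neg_mem _ h1)
  have hle : ∀ n, ∀ z ∈ (IsLocalRing.maximalIdeal (GLin.invariants k H A) ^ n • ⊤ :
      Submodule (GLin.invariants k H A) (fixR (k := k) H A M)),
      (z : M) ∈ (m ^ n • ⊤ : Submodule A M) := by
    intro n z hz
    refine Submodule.smul_induction_on (p := fun z : fixR (k := k) H A M =>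
      (z : M) ∈ (m ^ n • ⊤ : Submodule A M)) hz ?_ ?_
    · intro r hr z _
      have h1 : (r : A) ∈ m ^ n := by
        have h2 : (IsLocalRing.maximalIdeal (GLin.invariants k H A)).map
            (GLin.invariants k H A).val ≤ m := by
          rw [Ideal.map_le_iff_le_comap]
          intro a ha
          exact maximalIdeal_le hα m hm ha
        have h3 := Ideal.mem_map_of_mem (GLin.invariants k H A).val hr
        rw [Ideal.map_pow] at h3
        exact Ideal.pow_right_mono h2 n h3
      exact Submodule.smul_mem_smul h1 (Submodule.mem_top)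
    · intro a b ha hb
      exact Submodule.add_mem _ ha hb
  refine ⟨L, L.2, fun n => ?_⟩
  have h1 := hL n
  rw [SModEq.sub_mem] at h1
  have h2 := hle n _ h1
  have h3 : ((X (ψ n) - X n : fixR (k := k) H A M) : M) ∈ (m ^ n • ⊤ : Submodule A M) :=
    hX n (ψ n) (hψ1 n)
  have e : (L : M) - x n = ((X (ψ n) - X n : fixR (k := k) H A M) : M) -
      ((X (ψ n) - L : fixR (k := k) H A M) : M) := by
    simp only [Submodule.coe_sub]
    change (L : M) - x n = (x (ψ n) - x n) - (x (ψ n) - L)
    abel
  rw [e]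
  exact Submodule.sub_mem _ h3 h2

end K881.Adic
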