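import Groth.Agent.LunaSt.K881.Infin
import Mathlib.RingTheory.Unramified.LocalStructure
import Mathlib.RingTheory.Unramified.Locus
import Mathlib.RingTheory.Etale.Locus
import Mathlib.RingTheory.Filtration
import Mathlib.RingTheory.Localization.Ideal

/-!
# An étale criterion: isomorphic infinitesimal neighbourhoods of a point
-/

set_option autoImplicit false

universe u v w

namespace K881.EtLoc

section max

variable {S : Type v} [CommRing S] (n : Ideal S) [n.IsMaximal]

theorem exists_inv_pow {t : S} (ht : t ∉ n) (j : ℕ) : ∃ u : S, u * t - 1 ∈ n ^ j := by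
  have h1 : Ideal.span {t} ⊔ n = ⊤ := by
    refine (Ideal.IsMaximal.out : IsCoatom n).2 _ (lt_of_le_of_ne le_sup_right ?_)
    intro h
    exact ht (h ▸ Ideal.mem_sup_left (Ideal.mem_span_singleton_self t))
  have h2 : IsCoprime (Ideal.span {t}) (n ^ j) := (Ideal.isCoprime_iff_sup_eq.2 h1).pow_right
  have h3 : (1 : S) ∈ Ideal.span {t} ⊔ n ^ j := by
    rw [Ideal.isCoprime_iff_sup_eq.1 h2]; trivial
  obtain ⟨x, hx, y, hy, hxy⟩ := Submodule.mem_sup.1 h3
  obtain ⟨u, rfl⟩ := Ideal.mem_span_singleton'.1 hx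
  refine ⟨u, ?_⟩
  have e : u * t - 1 = - y := by rw [← hxy]; ring
  rw [e]
  exact Ideal.neg_mem_iff _ |>.2 hy

theorem mem_pow_of_mul_mem {t x : S} (ht : t ∉ n) {j : ℕ} (h : t * x ∈ n ^ j) : x ∈ n ^ j := by
  obtain ⟨u, hu⟩ := exists_inv_pow n ht j
  have e : x = u * (t * x) - (u * t - 1) * x := by ring
  rw [e]
  exact Ideal.sub_mem _ (Ideal.mul_mem_left _ _ h) (Ideal.mul_mem_right _ _ hu)

end max

variable {R : Type u} {S : Type v} [CommRing R] [CommRing S] [Algebra R S] (n : Ideal S)
  [n.IsMaximal]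

theorem isUnramifiedAt [Algebra.FiniteType R S]
    (ha : ∀ s : S, ∃ r : R, s - algebraMap R S r ∈ n ^ 2) : Algebra.IsUnramifiedAt R n := by
  have h1 : (⊤ : Submodule S (Ω[S⁄R])) ≤ n • ⊤ := by
    rw [← KaehlerDifferential.span_range_derivation, Submodule.span_le]
    rintro _ ⟨s, rfl⟩
    have h2 : ∀ y ∈ n ^ 2, KaehlerDifferential.D R S y ∈ n • (⊤ : Submodule S (Ω[S⁄R])) := by
      intro y hy
      rw [pow_two] at hy
      refine Submodule.mul_induction_on hy ?_ ?_
      · intro a ha b hb
        rw [Derivation.leibniz]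
        exact Submodule.add_mem _ (Submodule.smul_mem_smul ha trivial)
          (Submodule.smul_mem_smul hb trivial)
      · intro a b ha hb
        rw [map_add]
        exact Submodule.add_mem _ ha hb
    obtain ⟨r, hr⟩ := ha s
    have h3 := h2 _ hr
    rw [map_sub, Derivation.map_algebraMap, sub_zero] at h3
    rw [KaehlerDifferential.span_range_derivation]
    exact h3
  have hfin : Module.Finite S (Ω[S⁄R]) := inferInstance
  obtain ⟨g, hg1, hg2⟩ := Submodule.exists_sub_one_mem_and_smul_eq_zero_of_fg_of_le_smul n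
    (⊤ : Submodule S (Ω[S⁄R])) (Module.Finite.fg_top) h1
  have hg : g ∉ n := by
    intro hg
    apply (Ideal.IsMaximal.ne_top ‹_› : n ≠ ⊤)
    rw [Ideal.eq_top_iff_one]
    have := n.sub_mem hg hg1
    rwa [sub_sub_cancel] at this
  have h4 : (⟨n, inferInstance⟩ : PrimeSpectrum S) ∈ Algebra.unramifiedLocus R S := by
    rw [Algebra.unramifiedLocus_eq_compl_support, Set.mem_compl_iff, Module.notMem_support_iff']
    intro m
    exact ⟨g, hg, hg2 m trivial⟩
  exact h4

open Infin in
/-- The étale criterion. -/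
theorem exists_etale [IsNoetherianRing R] [Algebra.FiniteType R S]
    (ha : ∀ l : ℕ, ∀ s : S, ∃ r : R, s - algebraMap R S r ∈ n ^ l)
    (hb : ∀ l : ℕ, ∃ j : ℕ, ∀ r : R, algebraMap R S r ∈ n ^ j →
      r ∈ (n.comap (algebraMap R S)) ^ l) :
    ∃ g ∉ n, Algebra.Etale R (Localization.Away g) := by
  classical
  have hunr : Algebra.IsUnramifiedAt R n := isUnramifiedAt n (ha 2)
  obtain ⟨f, hf, P, φ, hφ⟩ := Algebra.IsUnramifiedAt.exists_hasStandardEtaleSurjectionOn (R := R) n
  let E := P.Ring
  let Sf := Localization.Away f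
  have hEN : IsNoetherianRing E := Algebra.FiniteType.isNoetherianRing R E
  -- the ideal in `Sf`
  let Nf : Ideal Sf := n.map (algebraMap S Sf)
  have hpow : ∀ t ∈ Submonoid.powers f, t ∉ n := by
    rintro _ ⟨i, rfl⟩ h
    exact hf (Ideal.IsPrime.mem_of_pow_mem inferInstance i h)
  have hNf : ∀ (j : ℕ) (x : S), algebraMap S Sf x ∈ Nf ^ j → x ∈ n ^ j := by
    intro j x hx
    rw [← Ideal.map_pow, IsLocalization.algebraMap_mem_map_algebraMap_iff (Submonoid.powers f)] at hx
    obtain ⟨t, ht, htx⟩ := hx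
    exact mem_pow_of_mul_mem n (hpow t ht) htx
  have hNf1 : ∀ x : S, algebraMap S Sf x ∈ Nf ↔ x ∈ n := fun x =>
    ⟨fun h => by simpa using hNf 1 x (by simpa using h), fun h => Ideal.mem_map_of_mem _ h⟩
  have hmk : ∀ z : Sf, ∃ (s t : S), t ∈ Submonoid.powers f ∧
      algebraMap S Sf t * z = algebraMap S Sf s := by
    intro z
    obtain ⟨⟨s, t⟩, h⟩ := IsLocalization.surj (Submonoid.powers f) z
    exact ⟨s, t, t.2, by rw [mul_comm]; exact h⟩
  have hunit : ∀ t ∈ Submonoid.powers f, IsUnit (algebraMap S Sf t) := fun t ht =>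
    IsLocalization.map_units Sf (⟨t, ht⟩ : Submonoid.powers f)
  have hNfp : Nf.IsPrime := by
    refine ⟨?_, ?_⟩
    · intro h
      have h1 : algebraMap S Sf 1 ∈ Nf := by rw [h]; trivial
      exact (Ideal.IsPrime.one_notMem inferInstance) ((hNf1 1).1 h1)
    · intro x y hxy
      obtain ⟨s, t, ht, hst⟩ := hmk x
      obtain ⟨s', t', ht', hst'⟩ := hmk y
      have h1 : algebraMap S Sf (s * s') ∈ Nf := by
        rw [map_mul, ← hst, ← hst']
        have e : algebraMap S Sf t * x * (algebraMap S Sf t' * y) =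
          (algebraMap S Sf t * algebraMap S Sf t') * (x * y) := by ring
        rw [e]
        exact Ideal.mul_mem_left _ _ hxy
      rcases Ideal.IsPrime.mem_or_mem inferInstance ((hNf1 _).1 h1) with h | h
      · left
        have h2 : algebraMap S Sf t * x ∈ Nf := by rw [hst]; exact (hNf1 s).2 h
        exact (Ideal.unit_mul_mem_iff_mem _ (hunit t ht)).1 h2
      · right
        have h2 : algebraMap S Sf t' * y ∈ Nf := by rw [hst']; exact (hNf1 s').2 h
        exact (Ideal.unit_mul_mem_iff_mem _ (hunit t' ht')).1 h2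
  have hRS : ∀ r : R, φ (algebraMap R E r) = algebraMap S Sf (algebraMap R S r) := fun r => by
    rw [φ.commutes]
    exact IsScalarTower.algebraMap_apply R S Sf r
  -- the ideal in `E`
  let NE : Ideal E := Nf.comap φ.toRingHom
  have hNE : ∀ e : E, e ∈ NE ↔ φ e ∈ Nf := fun e => Iff.rfl
  have hNEp : NE.IsPrime := Ideal.comap_isPrime _ _
  have hNEpow : ∀ (j : ℕ) (e : E), e ∈ NE ^ j → φ e ∈ Nf ^ j := fun j e he =>
    Ideal.le_comap_pow φ.toRingHom j he
  have hcomap : NE.comap (algebraMap R E) = n.comap (algebraMap R S) := by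
    ext r
    rw [Ideal.mem_comap, hNE, hRS, hNf1, Ideal.mem_comap]
  have hs : ∀ e : E, ∃ r : R, e - algebraMap R E r ∈ NE := by
    intro e
    obtain ⟨s, t, ht, hst⟩ := hmk (φ e)
    obtain ⟨u, hu⟩ := exists_inv_pow n (hpow t ht) 1
    rw [pow_one] at hu
    obtain ⟨r, hr⟩ := ha 1 (u * s)
    rw [pow_one] at hr
    refine ⟨r, ?_⟩
    rw [hNE, map_sub, hRS]
    have h2 : algebraMap S Sf t * (φ e - algebraMap S Sf (algebraMap R S r)) ∈ Nf := by
      have e1 : algebraMap S Sf t * (φ e - algebraMap S Sf (algebraMap R S r)) =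
          algebraMap S Sf (t * (u * s - algebraMap R S r) - (u * t - 1) * s) := by
        rw [mul_sub, hst]
        simp only [map_sub, map_mul, map_one]
        ring
      rw [e1, hNf1]
      exact n.sub_mem (n.mul_mem_left _ hr) (n.mul_mem_right _ hu)
    exact (Ideal.unit_mul_mem_iff_mem _ (hunit t ht)).1 h2
  have hJ := le_sup (A := R) NE hs
  have hker : ∀ e : E, φ e = 0 → ∃ ν ∈ NE, ν * e = e := by
    intro e he
    have h1 : e ∈ (⨅ i : ℕ, NE ^ i • ⊤ : Ideal E) := by
      rw [Submodule.mem_iInf]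
      intro j
      obtain ⟨j', hj'⟩ := hb j
      obtain ⟨r, hr⟩ := exists_sub NE hs hJ (max j j') e
      have h2 := hNEpow _ _ hr
      rw [map_sub, he, zero_sub, hRS, Ideal.neg_mem_iff] at h2
      have h3 := hj' r (Ideal.pow_le_pow_right (le_max_right j j') (hNf _ _ h2))
      rw [← hcomap] at h3
      have h4 : algebraMap R E r ∈ NE ^ j := Ideal.le_comap_pow (algebraMap R E) j h3
      have h5 : e ∈ NE ^ j := by
        have e1 : e = (e - algebraMap R E r) + algebraMap R E r := by ring
        rw [e1]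
        exact Ideal.add_mem _ (Ideal.pow_le_pow_right (le_max_left j j') hr) h4
      rw [smul_eq_mul, Ideal.mul_top]
      exact h5
    obtain ⟨ν, hν⟩ := (Ideal.mem_iInf_smul_pow_eq_bot_iff NE e).1 h1
    exact ⟨ν, ν.2, hν⟩
  -- the local ring of `S` at `n` is the local ring of `E` at `NE`
  let L := Localization.AtPrime n
  have hfL : IsUnit (algebraMap S L f) :=
    IsLocalization.map_units L (⟨f, hf⟩ : n.primeCompl)
  let lam : Sf →+* L := IsLocalization.Away.lift (S := Sf) f hfL
  have hlam : ∀ s : S, lam (algebraMap S Sf s) = algebraMap S L s := fun s =>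
    IsLocalization.Away.lift_eq f hfL s
  let _ : Algebra E L := (lam.comp φ.toRingHom).toAlgebra
  have hEL : ∀ e : E, algebraMap E L e = lam (φ e) := fun e => rfl
  have hst : IsScalarTower R E L := .of_algebraMap_eq fun r => by
    rw [hEL, hRS, hlam]
    exact IsScalarTower.algebraMap_apply R S L r
  have hloc : IsLocalization NE.primeCompl L := by
    rw [isLocalization_iff]
    refine ⟨?_, ?_, ?_⟩
    · rintro ⟨e, he⟩
      have he' : φ e ∉ Nf := he
      obtain ⟨s, t, ht, hst⟩ := hmk (φ e)
      have hs' : s ∉ n := by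
        intro h
        apply he'
        have h2 : algebraMap S Sf t * φ e ∈ Nf := by rw [hst]; exact (hNf1 s).2 h
        exact (Ideal.unit_mul_mem_iff_mem _ (hunit t ht)).1 h2
      have h3 : IsUnit (lam (algebraMap S Sf t) * lam (φ e)) := by
        rw [← map_mul, hst, hlam]
        exact IsLocalization.map_units L (⟨s, hs'⟩ : n.primeCompl)
      exact isUnit_of_mul_isUnit_right h3
    · intro z
      obtain ⟨⟨s, t⟩, h⟩ := IsLocalization.surj n.primeCompl z
      obtain ⟨e₁, he₁⟩ := hφ (algebraMap S Sf s)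
      obtain ⟨e₂, he₂⟩ := hφ (algebraMap S Sf (t : S))
      have he₂' : e₂ ∉ NE := by
        rw [hNE, he₂, hNf1]
        exact t.2
      refine ⟨(e₁, ⟨e₂, he₂'⟩), ?_⟩
      change z * algebraMap E L e₂ = algebraMap E L e₁
      rw [hEL, hEL, he₁, he₂, hlam, hlam]
      exact h
    · intro x y hxy
      have h1 : lam (φ (x - y)) = 0 := by
        rw [map_sub, map_sub, ← hEL, ← hEL, hxy, sub_self]
      obtain ⟨s, t, ht, hst⟩ := hmk (φ (x - y))
      have h2 : algebraMap S L s = 0 := by
        rw [← hlam, ← hst, map_mul, h1, mul_zero]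
      obtain ⟨⟨u, hu⟩, hus⟩ := (IsLocalization.map_eq_zero_iff n.primeCompl L s).1 h2
      obtain ⟨e', he'⟩ := hφ (algebraMap S Sf u)
      have he'N : e' ∉ NE := by
        rw [hNE, he', hNf1]
        exact hu
      have h3 : φ (e' * (x - y)) = 0 := by
        have h4 : algebraMap S Sf t * φ (e' * (x - y)) = 0 := by
          rw [map_mul, he', ← mul_assoc, mul_comm (algebraMap S Sf t), mul_assoc, hst, ← map_mul]
          have hus' : u * s = 0 := hus
          rw [hus', map_zero]
        exact ((hunit t ht).mul_right_eq_zero).1 h4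
      obtain ⟨ν, hν, hν'⟩ := hker _ h3
      have h5 : (1 - ν) * e' ∉ NE := by
        intro h
        rcases hNEp.mem_or_mem h with h | h
        · apply hNEp.one_notMem
          have := NE.add_mem h hν
          rwa [sub_add_cancel] at this
        · exact he'N h
      refine ⟨⟨_, h5⟩, ?_⟩
      change (1 - ν) * e' * x = (1 - ν) * e' * y
      have e1 : (1 - ν) * e' * x - (1 - ν) * e' * y = e' * (x - y) - ν * (e' * (x - y)) := by ring
      rw [← sub_eq_zero, e1, hν', sub_self]
  have h1 : Algebra.FormallyEtale E L := Algebra.FormallyEtale.of_isLocalization NE.primeCompl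
  have h2 : Algebra.IsEtaleAt R n := Algebra.FormallyEtale.comp R E L
  have : Algebra.FinitePresentation R S := Algebra.FinitePresentation.of_finiteType.1 inferInstance
  exact Algebra.exists_etale_of_isEtaleAt n

end K881.EtLoc
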