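import Mathlib.RingTheory.Unramified.LocalStructure
import Mathlib.RingTheory.Etale.Basic
import Mathlib.RingTheory.Smooth.StandardSmoothCotangent
import Mathlib.RingTheory.LocalRing.Quotient

/-!
# Étale local sections of smooth algebras with a prescribed reduction
-/

set_option autoImplicit false

namespace K881.EtSec

open TensorProduct MvPolynomial

universe u

/-- Let `A` be local, `I` a proper ideal, `C` a smooth `A`-algebra and `ρ : C → A/I` an `A`-algebra map.
Then `ρ` factors through an étale `A`-algebra. -/
theorem exists_etale_factor {A C : Type u} [CommRing A] [IsLocalRing A] (I : Ideal A) (hI : I ≠ ⊤)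
    [CommRing C] [Algebra A C] [Algebra.Smooth A C] (ρ : C →ₐ[A] A ⧸ I) :
    ∃ (A' : Type u) (_ : CommRing A') (_ : Algebra A A') (_ : Algebra.Etale A A')
      (c : C →ₐ[A] A') (φ : A' →ₐ[A] A ⧸ I), φ.comp c = ρ := by
  classical
  have : Nontrivial (A ⧸ I) := Ideal.Quotient.nontrivial_iff.2 hI
  have : IsLocalRing (A ⧸ I) := IsLocalRing.of_surjective' (Ideal.Quotient.mk I)
    Ideal.Quotient.mk_surjective
  let p : Ideal C := (IsLocalRing.maximalIdeal (A ⧸ I)).comap ρ.toRingHom
  have hp : p.IsPrime := Ideal.comap_isPrime _ _
  have : Algebra.IsSmoothAt A p := inferInstance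
  obtain ⟨f, hfp, n, alg, hst, het⟩ :=
    Algebra.IsSmoothAt.exists_isStandardEtale_mvPolynomial (R := A) (S := C) (p := p)
  have hf : IsUnit (ρ f) := by
    by_contra h
    exact hfp h
  let ρf : Localization.Away f →ₐ[A] A ⧸ I :=
    { IsLocalization.Away.lift (S := Localization.Away f) f (g := ρ.toRingHom) hf with
      commutes' := fun a => by
        change IsLocalization.Away.lift (S := Localization.Away f) f (g := ρ.toRingHom) hf
          (algebraMap A (Localization.Away f) a) = _
        rw [IsScalarTower.algebraMap_apply A C (Localization.Away f),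
          IsLocalization.Away.lift_eq]
        exact ρ.commutes a }
  have hρf : ∀ x : C, ρf (algebraMap C (Localization.Away f) x) = ρ x := fun x =>
    IsLocalization.Away.lift_eq f hf x
  choose a ha using fun i : Fin n => Ideal.Quotient.mk_surjective
    (ρf (algebraMap (MvPolynomial (Fin n) A) (Localization.Away f) (X i)))
  let ev : MvPolynomial (Fin n) A →ₐ[A] A := aeval a
  let _ : Algebra (MvPolynomial (Fin n) A) A := ev.toRingHom.toAlgebra
  have : IsScalarTower A (MvPolynomial (Fin n) A) A := .of_algebraMap_eq fun x => by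
    change x = ev (algebraMap A _ x)
    rw [ev.commutes]
    rfl
  have hg : ∀ x : MvPolynomial (Fin n) A, ρf (algebraMap (MvPolynomial (Fin n) A)
      (Localization.Away f) x) = algebraMap (MvPolynomial (Fin n) A) (A ⧸ I) x := by
    have h1 : ρf.comp (IsScalarTower.toAlgHom A (MvPolynomial (Fin n) A) (Localization.Away f)) =
        (Ideal.Quotient.mkₐ A I).comp ev := by
      refine MvPolynomial.algHom_ext fun i => ?_
      change ρf (algebraMap (MvPolynomial (Fin n) A) (Localization.Away f) (X i)) =
        Ideal.Quotient.mk I (ev (X i))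
      rw [← ha i]
      simp [ev]
    intro x
    exact DFunLike.congr_fun h1 x
  let g : Localization.Away f →ₐ[MvPolynomial (Fin n) A] A ⧸ I :=
    { ρf.toRingHom with commutes' := hg }
  let A' := A ⊗[MvPolynomial (Fin n) A] Localization.Away f
  have : Algebra.Etale A A' := inferInstance
  let c' : Localization.Away f →ₐ[A] A' :=
    (Algebra.TensorProduct.includeRight :
      Localization.Away f →ₐ[MvPolynomial (Fin n) A] A').restrictScalars A
  let φ : A' →ₐ[A] A ⧸ I := Algebra.TensorProduct.lift (Ideal.Quotient.mkₐ A I) g
    (fun _ _ => Commute.all _ _)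
  refine ⟨A', inferInstance, inferInstance, inferInstance,
    c'.comp (IsScalarTower.toAlgHom A C (Localization.Away f)), φ, ?_⟩
  refine AlgHom.ext fun x => ?_
  change φ ((1 : A) ⊗ₜ algebraMap C (Localization.Away f) x) = ρ x
  rw [Algebra.TensorProduct.lift_tmul, map_one, one_mul]
  exact hρf x

end K881.EtSec
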