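import Mathlib.Algebra.Algebra.Subalgebra.Lattice
import Mathlib.RingTheory.FiniteType
import Mathlib.RingTheory.FinitePresentation
import Mathlib.Algebra.Category.Ring.Basic
import Mathlib.CategoryTheory.Comma.Over.Basic
import Mathlib.CategoryTheory.Limits.Preserves.Basic
import Mathlib.CategoryTheory.Filtered.Basic
import Mathlib.CategoryTheory.Limits.Types.Filtered
import Mathlib.CategoryTheory.Types.Basic

/-!
# An algebra is the filtered colimit of its finitely generated subalgebras

In `Under (CommRingCat.of A)`, indexed by the finite subsets of the algebra; and the consequence for a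
functor to types preserving filtered colimits.
-/

set_option autoImplicit false

open CategoryTheory CategoryTheory.Limits

namespace K881.FgColim

universe u

section alg

variable {A Λ : Type u} [CommRing A] [CommRing Λ] [Algebra A Λ]

/-- the subalgebra generated by a finite set -/
abbrev adj (A : Type u) {Λ : Type u} [CommRing A] [CommRing Λ] [Algebra A Λ] (s : Finset Λ) :
    Subalgebra A Λ := Algebra.adjoin A (s : Set Λ)

/-- inclusions -/
def inc {s t : Finset Λ} (h : s ⊆ t) : adj A s →ₐ[A] adj A t :=
  Subalgebra.inclusion (Algebra.adjoin_mono (Finset.coe_subset.2 h))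

theorem self_mem (x : Λ) : x ∈ adj A ({x} : Finset Λ) := Algebra.subset_adjoin (by simp)

variable {T : Type u} [CommRing T] [Algebra A T]
  (f : ∀ s : Finset Λ, adj A s →ₐ[A] T) (hf : ∀ (s t : Finset Λ) (h : s ⊆ t), f s = (f t).comp (inc h))

include hf in
theorem key (s : Finset Λ) (x : Λ) (hx : x ∈ adj A s) :
    f {x} ⟨x, self_mem x⟩ = f s ⟨x, hx⟩ := by
  classical
  rw [hf {x} (s ∪ {x}) Finset.subset_union_right, hf s (s ∪ {x}) Finset.subset_union_left]
  rfl

/-- the universal map out of the union -/
def descAlg : Λ →ₐ[A] T where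
  toFun x := f {x} ⟨x, self_mem x⟩
  map_one' := by
    rw [key f hf ∅ 1 (Subalgebra.one_mem _)]
    exact map_one (f ∅)
  map_zero' := by
    rw [key f hf ∅ 0 (Subalgebra.zero_mem _)]
    exact map_zero (f ∅)
  map_mul' x y := by
    classical
    have hx : x ∈ adj A ({x, y} : Finset Λ) := Algebra.subset_adjoin (by simp)
    have hy : y ∈ adj A ({x, y} : Finset Λ) := Algebra.subset_adjoin (by simp)
    rw [key f hf _ x hx, key f hf _ y hy, key f hf _ (x * y) (Subalgebra.mul_mem _ hx hy)]
    exact map_mul (f {x, y}) ⟨x, hx⟩ ⟨y, hy⟩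
  map_add' x y := by
    classical
    have hx : x ∈ adj A ({x, y} : Finset Λ) := Algebra.subset_adjoin (by simp)
    have hy : y ∈ adj A ({x, y} : Finset Λ) := Algebra.subset_adjoin (by simp)
    rw [key f hf _ x hx, key f hf _ y hy, key f hf _ (x + y) (Subalgebra.add_mem _ hx hy)]
    exact map_add (f {x, y}) ⟨x, hx⟩ ⟨y, hy⟩
  commutes' a := by
    rw [key f hf ∅ _ (Subalgebra.algebraMap_mem _ a)]
    exact (f ∅).commutes a

theorem descAlg_apply (s : Finset Λ) (x : adj A s) : descAlg f hf (x : Λ) = f s x :=
  key f hf s x x.2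

end alg

section cat

variable (A Λ : Type u) [CommRing A] [CommRing Λ] [Algebra A Λ]

/-- an algebra as an object under `A` -/
abbrev U (B : Type u) [CommRing B] [Algebra A B] : Under (CommRingCat.of A) :=
  Under.mk (CommRingCat.ofHom (algebraMap A B))

variable {A} in
/-- an algebra map as a morphism under `A` -/
def UHom {B B' : Type u} [CommRing B] [Algebra A B] [CommRing B'] [Algebra A B'] (f : B →ₐ[A] B') :
    U A B ⟶ U A B' :=
  Under.homMk (CommRingCat.ofHom f.toRingHom) (by
    ext x
    exact f.commutes x)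

variable {A} in
theorem UHom_comp {B B' B'' : Type u} [CommRing B] [Algebra A B] [CommRing B'] [Algebra A B']
    [CommRing B''] [Algebra A B''] (f : B →ₐ[A] B') (g : B' →ₐ[A] B'') :
    UHom (g.comp f) = UHom f ≫ UHom g := rfl

/-- the diagram of finitely generated subalgebras -/
def D : Finset Λ ⥤ Under (CommRingCat.of A) where
  obj s := U A (adj A s)
  map h := UHom (inc h.le)
  map_id _ := rfl
  map_comp _ _ := rfl

/-- the cocone with point the algebra itself -/
def cc : Cocone (D A Λ) where
  pt := U A Λ
  ι := { app := fun s => UHom (adj A s).val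
         naturality := fun _ _ _ => rfl }

/-- the algebra structure of an object under `A` -/
@[reducible] def algU (X : Under (CommRingCat.of A)) : Algebra A X.right := X.hom.hom.toAlgebra

/-- the components of a cocone as algebra maps -/
def comp (t : Cocone (D A Λ)) (s : Finset Λ) :
    @AlgHom A (adj A s) t.pt.right _ _ _ _ (algU A t.pt) :=
  @AlgHom.mk A (adj A s) t.pt.right _ _ _ _ (algU A t.pt) (t.ι.app s).right.hom (fun a =>
    congrArg (fun f => f.hom a) (Under.w (t.ι.app s)))

theorem comp_comp (t : Cocone (D A Λ)) (s s' : Finset Λ) (h : s ⊆ s') :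
    comp A Λ t s = @AlgHom.comp A (adj A s) (adj A s') t.pt.right _ _ _ _ _ _ (algU A t.pt)
      (comp A Λ t s') (inc h) := by
  have h2 := t.w (homOfLE h : s ⟶ s')
  refine @AlgHom.ext A (adj A s) t.pt.right _ _ _ _ (algU A t.pt) _ _ fun x => ?_
  exact (congrArg (fun f => f.right.hom x) h2).symm

/-- the universal map -/
def desc (t : Cocone (D A Λ)) : @AlgHom A Λ t.pt.right _ _ _ _ (algU A t.pt) :=
  @descAlg A Λ _ _ _ t.pt.right _ (algU A t.pt) (comp A Λ t) (comp_comp A Λ t)

theorem desc_apply (t : Cocone (D A Λ)) (s : Finset Λ) (x : adj A s) :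
    @DFunLike.coe _ _ _ (@AlgHom.funLike A Λ t.pt.right _ _ _ _ (algU A t.pt)) (desc A Λ t) (x : Λ) =
      (t.ι.app s).right.hom x :=
  @descAlg_apply A Λ _ _ _ t.pt.right _ (algU A t.pt) (comp A Λ t) (comp_comp A Λ t) s x

/-- the universal map as a ring map -/
def descR (t : Cocone (D A Λ)) : Λ →+* t.pt.right :=
  @AlgHom.toRingHom A Λ t.pt.right _ _ _ _ (algU A t.pt) (desc A Λ t)

theorem descR_apply (t : Cocone (D A Λ)) (s : Finset Λ) (x : adj A s) :
    descR A Λ t (x : Λ) = (t.ι.app s).right.hom x := desc_apply A Λ t s x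

theorem descR_algebraMap (t : Cocone (D A Λ)) (a : A) :
    descR A Λ t (algebraMap A Λ a) = t.pt.hom.hom a :=
  @AlgHom.commutes A Λ t.pt.right _ _ _ _ (algU A t.pt) (desc A Λ t) a

/-- `Λ` is the colimit of its finitely generated subalgebras -/
def isColimit : IsColimit (cc A Λ) where
  desc t := Under.homMk (CommRingCat.ofHom (descR A Λ t)) (by
    refine CommRingCat.hom_ext (RingHom.ext fun a => ?_)
    exact descR_algebraMap A Λ t a)
  fac t s := by
    refine Under.UnderMorphism.ext (CommRingCat.hom_ext (RingHom.ext fun x => ?_))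
    exact descR_apply A Λ t s x
  uniq t m hm := by
    refine Under.UnderMorphism.ext (CommRingCat.hom_ext (RingHom.ext fun (x : Λ) => ?_))
    have h1 := hm ({x} : Finset Λ)
    have h2 := congrArg (fun f => f.right.hom (⟨x, self_mem (A := A) (Λ := Λ) x⟩ :
      adj A ({x} : Finset Λ))) h1
    exact Eq.trans h2 (descR_apply A Λ t {x} ⟨x, self_mem (A := A) (Λ := Λ) x⟩).symm

variable {A Λ} in
/-- For a functor preserving filtered colimits, every element over `Λ` comes from a finitely presented
algebra (`A` Noetherian). -/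
theorem exists_fp [IsNoetherianRing A] (F : Under (CommRingCat.of A) ⥤ Type u)
    (hF : ∀ (J : Type u) [SmallCategory J] [IsFiltered J], PreservesColimitsOfShape J F)
    (ξ : F.obj (U A Λ)) : ∃ (B : Type u) (_ : CommRing B) (_ : Algebra A B)
      (_ : Algebra.FinitePresentation A B) (f : B →ₐ[A] Λ) (ζ : F.obj (U A B)),
      F.map (UHom f) ζ = ξ := by
  classical
  have := hF (Finset Λ)
  have hc : IsColimit (F.mapCocone (cc A Λ)) := isColimitOfPreserves F (isColimit A Λ)
  obtain ⟨s, ζ, hζ⟩ := Types.jointly_surjective_of_isColimit hc ξ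
  have hfg : (adj A s).FG := ⟨s, rfl⟩
  have hft : Algebra.FiniteType A (adj A s) := Subalgebra.fg_iff_finiteType _ |>.1 hfg
  exact ⟨adj A s, inferInstance, inferInstance,
    Algebra.FinitePresentation.of_finiteType.1 hft, (adj A s).val, ζ, hζ⟩

end cat

end K881.FgColim
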