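import Groth.Agent.LunaSt.K881.Rey
import Groth.Agent.HopfRep.K189.CoeffSp2
import Mathlib.RingTheory.FiniteType

/-!
# A Noetherian `G`-algebra is of finite type over its invariants (`G` linearly reductive)
-/

set_option autoImplicit false

universe u v w w'

open TensorProduct HopfRep

namespace K881.FinType

open K881.Rey K881.Hilbert

variable {k : Type u} [Field k] {H : Type v} [CommRing H] [HopfAlgebra k H]

section LC

/-- `Δ(U) ⊆ H ⊗ U` -/
def LC (U : Submodule k H) : Prop :=
  ∀ u ∈ U, CoalgebraStruct.comul (R := k) u ∈ LinearMap.range (U.subtype.lTensor H)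

theorem range_mono {U U' : Submodule k H} (h : U ≤ U') {x : H ⊗[k] H}
    (hx : x ∈ LinearMap.range (U.subtype.lTensor H)) :
    x ∈ LinearMap.range (U'.subtype.lTensor H) := by
  obtain ⟨y, rfl⟩ := hx
  refine ⟨(Submodule.inclusion h).lTensor H y, ?_⟩
  rw [← LinearMap.comp_apply, ← LinearMap.lTensor_comp]
  rfl

theorem LC.sup {U U' : Submodule k H} (h : LC U) (h' : LC U') : LC (U ⊔ U') := by
  intro x hx
  obtain ⟨u, hu, u', hu', rfl⟩ := Submodule.mem_sup.1 hx
  rw [map_add]
  exact Submodule.add_mem _ (range_mono le_sup_left (h u hu)) (range_mono le_sup_right (h' u' hu'))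

theorem LC.mul {U U' : Submodule k H} (h : LC U) (h' : LC U') : LC (U * U') := by
  intro x hx
  refine Submodule.mul_induction_on hx ?_ ?_
  · intro m hm n hn
    obtain ⟨s, hs⟩ := h m hm
    obtain ⟨t, ht⟩ := h' n hn
    have e : CoalgebraStruct.comul (R := k) (m * n) =
      CoalgebraStruct.comul (R := k) m * CoalgebraStruct.comul (R := k) n := Bialgebra.comul_mul _ _
    rw [e, ← hs, ← ht]
    clear e hs ht
    induction s with
    | zero => simp
    | add x y hx hy => rw [map_add, add_mul]; exact Submodule.add_mem _ hx hy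
    | tmul x a =>
      induction t with
      | zero => simp
      | add x y hx hy => rw [map_add, mul_add]; exact Submodule.add_mem _ hx hy
      | tmul y b =>
        refine ⟨(x * y) ⊗ₜ ⟨(a : H) * b, Submodule.mul_mem_mul a.2 b.2⟩, ?_⟩
        simp
  · intro y z hy hz
    rw [map_add]
    exact Submodule.add_mem _ hy hz

theorem LC.one : LC (1 : Submodule k H) := by
  intro x hx
  obtain ⟨r, rfl⟩ := Submodule.mem_one.1 hx
  refine ⟨1 ⊗ₜ ⟨algebraMap k H r, hx⟩, ?_⟩
  rw [LinearMap.lTensor_tmul, Submodule.subtype_apply]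
  change (1 : H) ⊗ₜ[k] algebraMap k H r = _
  rw [Algebra.algebraMap_eq_smul_one, map_smul, Bialgebra.comul_one,
    Algebra.TensorProduct.one_def, TensorProduct.tmul_smul]

theorem LC.pow {U : Submodule k H} (h : LC U) (d : ℕ) : LC (U ^ d) := by
  induction d with
  | zero => rw [pow_zero]; exact LC.one
  | succ d ih => rw [pow_succ]; exact ih.mul h

theorem exists_LC (s : Finset H) : ∃ U : Submodule k H, LC U ∧ U.FG ∧ ∀ c ∈ s, c ∈ U := by
  classical
  induction s using Finset.induction_on with
  | empty => exact ⟨1, LC.one, ⟨{1}, by simp [Submodule.one_eq_span]⟩, by simp⟩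
  | insert a s _ ih =>
    obtain ⟨U, hU, hUf, hsU⟩ := ih
    obtain ⟨D, hDf, haD, hD⟩ := K189.CoeffSp.exists_finite_subcoalg (k := k) (C := H) a
    have hD' : LC D := by
      intro d hd
      obtain ⟨y, hy⟩ := hD d hd
      rw [← hy]
      refine ⟨D.subtype.rTensor D y, ?_⟩
      rw [← LinearMap.comp_apply, LinearMap.lTensor_comp_rTensor]
    refine ⟨U ⊔ D, hU.sup hD', hUf.sup (Module.Finite.iff_fg.1 hDf), fun c hc => ?_⟩
    rcases Finset.mem_insert.1 hc with rfl | hc
    · exact Submodule.mem_sup_right haD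
    · exact Submodule.mem_sup_left (hsU c hc)

theorem exists_mem_pow {U : Submodule k H} (h1 : (1 : H) ∈ U) (s : Finset H)
    (hs : Algebra.adjoin k (s : Set H) = ⊤) (hsU : ∀ c ∈ s, c ∈ U) (h : H) : ∃ d, h ∈ U ^ d := by
  have hone : ∀ d : ℕ, (1 : H) ∈ U ^ d := by
    intro d
    induction d with
    | zero => rw [pow_zero]; exact Submodule.one_le.1 le_rfl
    | succ d ih => rw [pow_succ, ← mul_one (1 : H)]; exact Submodule.mul_mem_mul ih h1
  have hmono : ∀ {i j : ℕ}, i ≤ j → U ^ i ≤ U ^ j := by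
    intro i j hij x hx
    obtain ⟨l, rfl⟩ := Nat.exists_eq_add_of_le hij
    rw [pow_add, ← mul_one x]
    exact Submodule.mul_mem_mul hx (hone l)
  have hh : h ∈ Algebra.adjoin k (s : Set H) := by rw [hs]; trivial
  induction hh using Algebra.adjoin_induction with
  | mem x hx => exact ⟨1, by rw [pow_one]; exact hsU x hx⟩
  | algebraMap a => exact ⟨0, by rw [pow_zero]; exact Submodule.mem_one.2 ⟨a, rfl⟩⟩
  | add x y _ _ hx hy =>
    obtain ⟨d, hd⟩ := hx
    obtain ⟨e, he⟩ := hy
    exact ⟨max d e, Submodule.add_mem _ (hmono (le_max_left _ _) hd)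
      (hmono (le_max_right _ _) he)⟩
  | mul x y _ _ hx hy =>
    obtain ⟨d, hd⟩ := hx
    obtain ⟨e, he⟩ := hy
    exact ⟨d + e, by rw [pow_add]; exact Submodule.mul_mem_mul hd he⟩

end LC

section Ret

variable (A : Type w) [CommRing A] [Algebra k A] [Comod k H A] [GLin.IsCoactAlg k H A]

/-- `a ⊗ h ↦ Σ a₀ ⊗ S(a₁) h` as an algebra map -/
noncomputable def T : A ⊗[k] H →ₐ[k] A ⊗[k] H :=
  Algebra.TensorProduct.lift
    ((Algebra.TensorProduct.map (AlgHom.id k A) (HopfAlgebra.antipodeAlgHom k H)).comp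
      (GLin.coactAlgHom k H A)) Algebra.TensorProduct.includeRight (fun _ _ => Commute.all _ _)

/-- `a ⊗ (h ⊗ h') ↦ a ⊗ S(h) h'` -/
noncomputable def L : A ⊗[k] (H ⊗[k] H) →ₗ[k] A ⊗[k] H :=
  (LinearMap.mul' k H ∘ₗ (HopfAlgebraStruct.antipode k).rTensor H).lTensor A

theorem T_tmul (a : A) (h : H) : T (k := k) A (a ⊗ₜ h) =
    L A ((TensorProduct.assoc k A H H) (Comod.coact (k := k) (A := H) a ⊗ₜ[k] h)) := by
  have e : T (k := k) A (a ⊗ₜ h) = (Algebra.TensorProduct.map (AlgHom.id k A)
      (HopfAlgebra.antipodeAlgHom k H)) (Comod.coact (k := k) (A := H) a) * (1 ⊗ₜ h) := by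
    rw [T, Algebra.TensorProduct.lift_tmul]
    rfl
  rw [e]
  generalize Comod.coact (k := k) (A := H) a = z
  induction z with
  | zero => simp
  | add x y hx hy => simp only [map_add, add_mul, add_tmul, hx, hy]
  | tmul x c => simp [L]

theorem ret_eq (α : H →ₗ[k] k) (y : A ⊗[k] H) :
    K191.Integral.ret A α y = TensorProduct.rid k A (α.lTensor A (T A y)) := by
  induction y with
  | zero => simp
  | add x y hx hy => simp only [map_add, hx, hy]
  | tmul a h =>
    rw [T_tmul, K191.Integral.ret]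
    simp only [LinearMap.comp_apply, LinearMap.rTensor_tmul, LinearEquiv.coe_coe]
    generalize Comod.coact (k := k) (A := H) a = z
    induction z with
    | zero => simp
    | add x y hx hy => simp only [map_add, add_tmul, hx, hy]
    | tmul x c => simp [L]

theorem T_coact (x : A) : T A (Comod.coact (k := k) (A := H) x) = x ⊗ₜ[k] (1 : H) := by
  have h1 : ∀ y : A ⊗[k] H, T A y = L A ((TensorProduct.assoc k A H H)
      ((Comod.coact (k := k) (A := H)).rTensor H y)) := by
    intro y
    induction y with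
    | zero => simp
    | add x y hx hy => simp only [map_add, hx, hy]
    | tmul a h => rw [T_tmul, LinearMap.rTensor_tmul]
  have h2 := LinearMap.congr_fun (Comod.coassoc (k := k) (A := H) (V := A)) x
  simp only [LinearMap.comp_apply, LinearEquiv.coe_coe] at h2
  rw [h1, h2, L, ← LinearMap.comp_apply, ← LinearMap.lTensor_comp]
  have h3 : (LinearMap.mul' k H ∘ₗ (HopfAlgebraStruct.antipode k).rTensor H) ∘ₗ
      (CoalgebraStruct.comul (R := k) (A := H)) =
      Algebra.linearMap k H ∘ₗ CoalgebraStruct.counit (R := k) (A := H) := by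
    rw [LinearMap.comp_assoc]
    exact HopfAlgebra.mul_antipode_rTensor_comul
  rw [h3, LinearMap.lTensor_comp, LinearMap.comp_apply]
  have h4 := LinearMap.congr_fun (Comod.counit_comp (k := k) (A := H) (V := A)) x
  rw [LinearMap.comp_apply] at h4
  rw [h4]
  simp

theorem ret_mul_coact (α : H →ₗ[k] k) (c : A ⊗[k] H) (x : A) :
    K191.Integral.ret A α (c * Comod.coact (k := k) (A := H) x) = K191.Integral.ret A α c * x := by
  rw [ret_eq, ret_eq, map_mul, T_coact]
  generalize T A c = z
  induction z with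
  | zero => simp
  | add x y hx hy => simp only [map_add, add_mul, hx, hy]
  | tmul y h => simp

end Ret

section Main

variable {A : Type w} [CommRing A] [Algebra k A] [Comod k H A] [GLin.IsCoactAlg k H A]

omit [Comod k H A] [GLin.IsCoactAlg k H A] in
theorem mem_fil {U : Submodule k H} {d : ℕ} {y : A ⊗[k] H} :
    y ∈ fil A (U.map (Algebra.TensorProduct.includeRight : H →ₐ[k] A ⊗[k] H).toLinearMap) d ↔
      y ∈ LinearMap.range ((U ^ d).subtype.lTensor A) := by
  have e : (U.map (Algebra.TensorProduct.includeRight : H →ₐ[k] A ⊗[k] H).toLinearMap) ^ d =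
      (U ^ d).map (Algebra.TensorProduct.includeRight : H →ₐ[k] A ⊗[k] H).toLinearMap :=
    (Submodule.map_pow _ _ _).symm
  rw [fil, e]
  constructor
  · intro h
    refine Submodule.mul_induction_on h ?_ ?_
    · rintro _ ⟨a, rfl⟩ _ ⟨u, hu, rfl⟩
      refine ⟨a ⊗ₜ ⟨u, hu⟩, ?_⟩
      simp [Algebra.TensorProduct.algebraMap_apply]
    · intro x y hx hy
      exact Submodule.add_mem _ hx hy
  · rintro ⟨z, rfl⟩
    induction z with
    | zero => simp
    | add x y hx hy => rw [map_add]; exact Submodule.add_mem _ hx hy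
    | tmul a u =>
      have e2 : (U ^ d).subtype.lTensor A (a ⊗ₜ u) = (a ⊗ₜ (1 : H)) * ((1 : A) ⊗ₜ (u : H)) := by
        simp
      rw [e2]
      refine Submodule.mul_mem_mul ⟨a, ?_⟩ ⟨u, u.2, rfl⟩
      simp [Algebra.TensorProduct.algebraMap_apply]

/-- A Noetherian algebra with an action of a linearly reductive group is of finite type over the
invariants. -/
theorem finiteType [Algebra.FiniteType k H] (hG : IsLinearlyReductive k H) [IsNoetherianRing A] :
    Algebra.FiniteType (GLin.invariants k H A) A := by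
  classical
  obtain ⟨α, hα⟩ := exists_nInt hG
  obtain ⟨s₀, hs₀⟩ := Algebra.FiniteType.out (R := k) (A := H)
  obtain ⟨U, hU, hUf, hsU⟩ := exists_LC (k := k) (insert 1 s₀)
  have hU1 : (1 : H) ∈ U := hsU 1 (Finset.mem_insert_self _ _)
  have hUs : ∀ c ∈ s₀, c ∈ U := fun c hc => hsU c (Finset.mem_insert_of_mem hc)
  set W := U.map (Algebra.TensorProduct.includeRight : H →ₐ[k] A ⊗[k] H).toLinearMap with hW
  have hW1 : (1 : A ⊗[k] H) ∈ W := ⟨1, hU1, map_one (Algebra.TensorProduct.includeRight : H →ₐ[k] A ⊗[k] H)⟩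
  have hex : ∀ y : A ⊗[k] H, ∃ d, y ∈ fil A W d := by
    intro y
    induction y with
    | zero => exact ⟨0, Submodule.zero_mem _⟩
    | add x y hx hy =>
      obtain ⟨d, hd⟩ := hx
      obtain ⟨e, he⟩ := hy
      exact ⟨max d e, Submodule.add_mem _ (fil_mono hW1 (le_max_left _ _) hd)
        (fil_mono hW1 (le_max_right _ _) he)⟩
    | tmul a h =>
      obtain ⟨d, hd⟩ := exists_mem_pow hU1 s₀ hs₀ hUs h
      exact ⟨d, mem_fil.2 ⟨a ⊗ₜ ⟨h, hd⟩, by simp⟩⟩
  have hE3 : ∀ d, ∀ c ∈ fil A W d, GLin.coactAlgHom k H A (K191.Integral.ret A α c) ∈ fil A W d := by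
    intro d c hc
    rw [mem_fil] at hc ⊢
    rw [GLin.coactAlgHom_apply, K191.Integral.coact_ret hα.isInt]
    obtain ⟨z, rfl⟩ := hc
    induction z with
    | zero => simp
    | add x y hx hy => simp only [map_add]; exact Submodule.add_mem _ hx hy
    | tmul a u =>
      rw [LinearMap.lTensor_tmul, Submodule.subtype_apply, Hoch.Ind.coactAux_tmul]
      obtain ⟨t, ht⟩ := hU.pow d u u.2
      change (K191.Integral.ret A α).rTensor H ((TensorProduct.assoc k A H H).symm
        (a ⊗ₜ[k] CoalgebraStruct.comul (R := k) (u : H))) ∈ _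
      rw [← ht]
      clear ht
      induction t with
      | zero => simp
      | add x y hx hy => simp only [map_add, tmul_add]; exact Submodule.add_mem _ hx hy
      | tmul p q =>
        refine ⟨K191.Integral.ret A α (a ⊗ₜ p) ⊗ₜ q, ?_⟩
        simp
  obtain ⟨s, hs⟩ := exists_finset_adjoin (A := A) W (hUf.map _) (GLin.coactAlgHom k H A)
    (K191.Integral.ret A α) (fun x => K191.Integral.ret_coact hα.one x)
    (fun c x => ret_mul_coact A α c x) hE3 (fun x => hex _)
  refine ⟨⟨s, ?_⟩⟩
  rw [eq_top_iff]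
  intro x _
  have hx : x ∈ Algebra.adjoin k ({x | GLin.coactAlgHom k H A x ∈ base A k (A ⊗[k] H)} ∪
    (s : Set A)) := by rw [hs]; trivial
  have hinv : ∀ y : A, GLin.coactAlgHom k H A y ∈ base A k (A ⊗[k] H) →
      y ∈ GLin.invariants k H A := by
    rintro y ⟨a, ha⟩
    have hy1 : Comod.coact (k := k) (A := H) y = a ⊗ₜ[k] (1 : H) := by
      rw [GLin.coactAlgHom_apply] at ha
      rw [← ha]
      simp [Algebra.TensorProduct.algebraMap_apply]
    have hay : a = y := by
      have h4 := LinearMap.congr_fun (Comod.counit_comp (k := k) (A := H) (V := A)) y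
      rw [LinearMap.comp_apply, hy1] at h4
      have h5 := congrArg (TensorProduct.rid k A) h4
      simpa using h5
    rw [hay] at hy1
    exact hy1
  clear hs hE3 hex
  generalize hS : Algebra.adjoin (GLin.invariants k H A) (s : Set A) = S
  have hsS : ∀ y ∈ s, y ∈ S := fun y hy => hS ▸ Algebra.subset_adjoin hy
  clear hS
  induction hx using Algebra.adjoin_induction with
  | mem y hy =>
    rcases hy with hy | hy
    · exact S.algebraMap_mem (⟨y, hinv y hy⟩ : GLin.invariants k H A)
    · exact hsS y hy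
  | algebraMap r =>
    exact S.algebraMap_mem (algebraMap k (GLin.invariants k H A) r)
  | add x y _ _ hx hy => exact S.add_mem (hx trivial) (hy trivial)
  | mul x y _ _ hx hy => exact S.mul_mem (hx trivial) (hy trivial)

end Main

end K881.FinType
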