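import Mathlib.RingTheory.FiniteType
import Mathlib.RingTheory.Polynomial.Basic
import Mathlib.Algebra.Algebra.Operations
import Mathlib.Algebra.Polynomial.AlgebraMap

/-!
# Hilbert's finiteness argument for a retraction compatible with a filtration

`A` Noetherian, `C` an `A`-algebra filtered by `C_d = A·W^d` with `W` finitely generated over `k`,
`j : D → C` an algebra map with a `D`-linear retraction `E : C → D` such that `j ∘ E` preserves the
filtration.  Then `D` is generated over `D_0 = j⁻¹(C_0)` by finitely many elements.
The proof uses that the Rees algebra `⊕ C_d t^d` is Noetherian.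
-/

set_option autoImplicit false

namespace K881.Hilbert

open Polynomial

universe u v w x

variable {k : Type u} [CommRing k] {A : Type v} {C : Type w} [CommRing A] [CommRing C]
  [Algebra k A] [Algebra k C] [Algebra A C] [IsScalarTower k A C]

variable (A) in
/-- the image of `A` in `C` as a `k`-submodule -/
def base (k : Type u) [CommRing k] (C : Type w) [CommRing C] [Algebra k A] [Algebra k C]
    [Algebra A C] [IsScalarTower k A C] : Submodule k C :=
  LinearMap.range (IsScalarTower.toAlgHom k A C).toLinearMap

variable (A) in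
/-- the filtration `C_d = A·W^d` -/
def fil (W : Submodule k C) (d : ℕ) : Submodule k C := base A k C * W ^ d

theorem one_mem_base : (1 : C) ∈ base A k C := ⟨1, by simp⟩

theorem base_mul_base : base A k C * base A k C ≤ base A k C := by
  rw [Submodule.mul_le]
  rintro _ ⟨a, rfl⟩ _ ⟨b, rfl⟩
  exact ⟨a * b, by simp⟩

theorem fil_mul (W : Submodule k C) (i j : ℕ) : fil A W i * fil A W j ≤ fil A W (i + j) := by
  have h : fil A W i * fil A W j = (base A k C * base A k C) * W ^ (i + j) := by
    rw [fil, fil, pow_add, mul_mul_mul_comm]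
  rw [h, fil]
  exact mul_le_mul' base_mul_base le_rfl

theorem mem_fil_zero {W : Submodule k C} {c : C} : c ∈ fil A W 0 ↔ c ∈ base A k C := by
  rw [fil, pow_zero, mul_one]

theorem fil_mono {W : Submodule k C} (h1 : (1 : C) ∈ W) {i j : ℕ} (hij : i ≤ j) :
    fil A W i ≤ fil A W j := by
  refine mul_le_mul' le_rfl ?_
  obtain ⟨l, rfl⟩ := Nat.exists_eq_add_of_le hij
  intro x hx
  rw [pow_add, ← mul_one x]
  refine Submodule.mul_mem_mul hx ?_
  induction l with
  | zero => rw [pow_zero]; exact Submodule.one_le.1 le_rfl
  | succ l ih =>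
    rw [pow_succ, ← mul_one (1 : C)]
    exact Submodule.mul_mem_mul (ih (by omega)) h1

variable (A) in
/-- the Rees algebra -/
noncomputable def rees (s : Finset C) : Subalgebra A C[X] :=
  Algebra.adjoin A ((fun w => monomial 1 w) '' (s : Set C))

theorem isNoetherianRing_rees [IsNoetherianRing A] (s : Finset C) : IsNoetherianRing (rees A s) := by
  classical
  have h : (rees A s).FG := by
    refine ⟨s.image (fun w => monomial 1 w), ?_⟩
    rw [rees, Finset.coe_image]
  have : Algebra.FiniteType A (rees A s) := Subalgebra.fg_iff_finiteType _ |>.1 h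
  exact Algebra.FiniteType.isNoetherianRing A _

theorem monomial_mem (s : Finset C) (d : ℕ) (c : C) (hc : c ∈ fil A (Submodule.span k (s : Set C)) d) :
    monomial d c ∈ rees A s := by
  have h0 : ∀ c ∈ base A k C, monomial 0 c ∈ rees A s := by
    rintro _ ⟨a, rfl⟩
    exact (rees A s).algebraMap_mem a
  have h1 : ∀ c ∈ Submodule.span k (s : Set C), monomial 1 c ∈ rees A s := by
    intro c hc
    induction hc using Submodule.span_induction with
    | mem x hx => exact Algebra.subset_adjoin ⟨x, hx, rfl⟩
    | zero => rw [map_zero]; exact (rees A s).zero_mem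
    | add x y _ _ hx hy => rw [map_add]; exact (rees A s).add_mem hx hy
    | smul r x _ hx =>
      have : monomial 1 (r • x) = algebraMap A C[X] (algebraMap k A r) * monomial 1 x := by
        rw [Polynomial.algebraMap_apply, ← IsScalarTower.algebraMap_apply, C_mul_monomial,
          Algebra.smul_def]
      rw [this]
      exact (rees A s).mul_mem ((rees A s).algebraMap_mem _) hx
  have h2 : ∀ (d : ℕ), ∀ c ∈ (Submodule.span k (s : Set C)) ^ d, monomial d c ∈ rees A s := by
    intro d
    induction d with
    | zero =>
      intro c hc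
      rw [pow_zero] at hc
      obtain ⟨r, rfl⟩ := Submodule.mem_one.1 hc
      refine h0 _ ⟨algebraMap k A r, ?_⟩
      simp
    | succ d ih =>
      intro c hc
      rw [pow_succ] at hc
      refine Submodule.mul_induction_on hc ?_ ?_
      · intro x hx y hy
        rw [← monomial_mul_monomial]
        exact (rees A s).mul_mem (ih x hx) (h1 y hy)
      · intro x y hx hy
        rw [map_add]
        exact (rees A s).add_mem hx hy
  refine Submodule.mul_induction_on hc ?_ ?_
  · intro x hx y hy
    have := (rees A s).mul_mem (h0 x hx) (h2 d y hy)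
    rwa [monomial_mul_monomial, zero_add] at this
  · intro x y hx hy
    rw [map_add]
    exact (rees A s).add_mem hx hy

theorem coeff_mem (s : Finset C) (p : C[X]) (hp : p ∈ rees A s) :
    ∀ d, p.coeff d ∈ fil A (Submodule.span k (s : Set C)) d := by
  induction hp using Algebra.adjoin_induction with
  | mem x hx =>
    obtain ⟨w, hw, rfl⟩ := hx
    intro d
    simp only [coeff_monomial]
    split_ifs with h
    · subst h
      rw [fil, pow_one, ← one_mul w]
      exact Submodule.mul_mem_mul one_mem_base (Submodule.subset_span hw)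
    · exact Submodule.zero_mem _
  | algebraMap a =>
    intro d
    rw [Polynomial.algebraMap_apply, coeff_C]
    split_ifs with h
    · subst h
      rw [mem_fil_zero]
      exact ⟨a, rfl⟩
    · exact Submodule.zero_mem _
  | add x y _ _ hx hy =>
    intro d
    rw [coeff_add]
    exact Submodule.add_mem _ (hx d) (hy d)
  | mul x y _ _ hx hy =>
    intro d
    rw [coeff_mul]
    refine Submodule.sum_mem _ fun p hp => ?_
    rw [← Finset.mem_antidiagonal.1 hp]
    exact fil_mul _ _ _ (Submodule.mul_mem_mul (hx _) (hy _))

/-- Hilbert's argument. -/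
theorem exists_finset_adjoin [IsNoetherianRing A] {D : Type x} [CommRing D] [Algebra k D]
    (W : Submodule k C) (hW : W.FG) (j : D →ₐ[k] C) (E : C →ₗ[k] D) (hE1 : ∀ x, E (j x) = x)
    (hE2 : ∀ c x, E (c * j x) = E c * x)
    (hE3 : ∀ d, ∀ c ∈ fil A W d, j (E c) ∈ fil A W d) (hex : ∀ x, ∃ d, j x ∈ fil A W d) :
    ∃ s : Finset D, Algebra.adjoin k ({x | j x ∈ base A k C} ∪ (s : Set D)) = ⊤ := by
  classical
  obtain ⟨g, rfl⟩ := hW
  have := isNoetherianRing_rees (A := A) g
  set R := rees A g with hR
  let T : Set R := {r | ∃ (d : ℕ) (x : D), 1 ≤ d ∧ j x ∈ fil A (Submodule.span k (g : Set C)) d ∧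
    (r : C[X]) = monomial d (j x)}
  have hfg : (Submodule.span R T).FG := IsNoetherian.noetherian _
  obtain ⟨T', hT'T, hT'⟩ := (Submodule.fg_span_iff_fg_span_finset_subset T).1 hfg
  have hch : ∀ t : R, ∃ (d : ℕ) (x : D), t ∈ T' → (1 ≤ d ∧
      j x ∈ fil A (Submodule.span k (g : Set C)) d ∧ (t : C[X]) = monomial d (j x)) := by
    intro t
    by_cases ht : t ∈ T'
    · obtain ⟨d, x, h⟩ := hT'T ht
      exact ⟨d, x, fun _ => h⟩
    · exact ⟨0, 0, fun h => absurd h ht⟩
  choose dd xx hdx using hch
  refine ⟨T'.image xx, ?_⟩
  set S := Algebra.adjoin k ({x | j x ∈ base A k C} ∪ ((T'.image xx : Finset D) : Set D)) with hS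
  have key : ∀ (d : ℕ) (x : D), j x ∈ fil A (Submodule.span k (g : Set C)) d → x ∈ S := by
    intro d
    induction d using Nat.strong_induction_on with
    | _ d ih =>
      intro x hx
      rcases Nat.eq_zero_or_pos d with rfl | hd
      · exact Algebra.subset_adjoin (Or.inl (mem_fil_zero.1 hx))
      · have hmem : (⟨monomial d (j x), monomial_mem g d _ hx⟩ : R) ∈ Submodule.span R T :=
          Submodule.subset_span ⟨d, x, hd, hx, rfl⟩
        rw [hT'] at hmem
        obtain ⟨f, -, hf⟩ := Submodule.mem_span_finset.1 hmem
        have h1 := congrArg (fun r : R => (r : C[X]).coeff d) hf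
        simp only [coeff_monomial, if_true] at h1
        have h2 : ∀ t ∈ T', ((f t • t : R) : C[X]).coeff d =
            if dd t ≤ d then (f t : C[X]).coeff (d - dd t) * j (xx t) else 0 := by
          intro t ht
          obtain ⟨-, -, h3⟩ := hdx t ht
          rw [smul_eq_mul, Subalgebra.coe_mul, h3, ← C_mul_X_pow_eq_monomial, ← mul_assoc,
            coeff_mul_X_pow', coeff_mul_C]
        have h4 : j x = ∑ t ∈ T', if dd t ≤ d then (f t : C[X]).coeff (d - dd t) * j (xx t)
            else 0 := by
          rw [← h1]
          rw [← Finset.sum_congr rfl h2]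
          rw [AddSubmonoidClass.coe_finsetSum, finsetSum_coeff]
        have h5 : x = ∑ t ∈ T', if dd t ≤ d then E ((f t : C[X]).coeff (d - dd t)) * xx t
            else 0 := by
          rw [← hE1 x, h4, map_sum]
          refine Finset.sum_congr rfl fun t _ => ?_
          split_ifs
          · exact hE2 _ _
          · exact map_zero _
        rw [h5]
        refine S.sum_mem fun t ht => ?_
        split_ifs with h6
        · obtain ⟨h7, -, -⟩ := hdx t ht
          refine S.mul_mem (ih (d - dd t) (by omega) _ ?_) (Algebra.subset_adjoin (Or.inr ?_))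
          · exact hE3 _ _ (coeff_mem g _ (f t).2 _)
          · exact Finset.mem_coe.2 (Finset.mem_image_of_mem _ ht)
        · exact S.zero_mem
  rw [eq_top_iff]
  intro x _
  obtain ⟨d, hd⟩ := hex x
  exact key d x hd

end K881.Hilbert
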