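import Mathlib.RingTheory.Unramified.Basic
import Mathlib.RingTheory.Nakayama
import Mathlib.RingTheory.Flat.EquationalCriterion
import Mathlib.Algebra.Ring.GeomSum
import Mathlib.RingTheory.Ideal.Quotient.Operations
import Mathlib.Algebra.Algebra.Operations

/-!
# Unramified and étale algebras along a closed subscheme mapped isomorphically
-/

set_option autoImplicit false

universe u v w

namespace K881.Infin

variable {A : Type u} {B : Type v} [CommRing A] [CommRing B] [Algebra A B] (J : Ideal B)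
  (hs : ∀ b : B, ∃ a : A, b - algebraMap A B a ∈ J)

include hs in
/-- unramifiedness on the closed subscheme -/
theorem le_sup [Algebra.FormallyUnramified A B] :
    J ≤ (J.comap (algebraMap A B)).map (algebraMap A B) ⊔ J ^ 2 := by
  set I := J.comap (algebraMap A B) with hI
  set K := I.map (algebraMap A B) ⊔ J ^ 2 with hK
  -- the retraction `B → A/I`
  let g : (A ⧸ I) →ₐ[A] (B ⧸ J) := Ideal.Quotient.liftₐ I (Algebra.ofId A (B ⧸ J)) (fun a ha => by
    change algebraMap A (B ⧸ J) a = 0
    rw [IsScalarTower.algebraMap_apply A B (B ⧸ J)]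
    exact Ideal.Quotient.eq_zero_iff_mem.2 ha)
  have hgmk : ∀ a : A, g (Ideal.Quotient.mk I a) = Ideal.Quotient.mk J (algebraMap A B a) :=
    fun a => rfl
  have hg : Function.Bijective g := by
    constructor
    · rw [injective_iff_map_eq_zero]
      intro x hx
      obtain ⟨a, rfl⟩ := Ideal.Quotient.mk_surjective x
      rw [hgmk, Ideal.Quotient.eq_zero_iff_mem] at hx
      exact Ideal.Quotient.eq_zero_iff_mem.2 hx
    · intro y
      obtain ⟨b, rfl⟩ := Ideal.Quotient.mk_surjective y
      obtain ⟨a, ha⟩ := hs b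
      exact ⟨Ideal.Quotient.mk I a, by rw [hgmk]; exact (Ideal.Quotient.eq.2 ha).symm⟩
  let e : (A ⧸ I) ≃ₐ[A] (B ⧸ J) := AlgEquiv.ofBijective g hg
  let l : (A ⧸ I) →ₐ[A] (B ⧸ K) := Ideal.Quotient.liftₐ I (Algebra.ofId A (B ⧸ K)) (fun a ha => by
    change algebraMap A (B ⧸ K) a = 0
    rw [IsScalarTower.algebraMap_apply A B (B ⧸ K)]
    exact Ideal.Quotient.eq_zero_iff_mem.2 (Ideal.mem_sup_left (Ideal.mem_map_of_mem _ ha)))
  have hlmk : ∀ a : A, l (Ideal.Quotient.mk I a) = Ideal.Quotient.mk K (algebraMap A B a) :=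
    fun a => rfl
  let f₁ : B →ₐ[A] (B ⧸ K) := Ideal.Quotient.mkₐ A K
  let f₂ : B →ₐ[A] (B ⧸ K) := (l.comp e.symm.toAlgHom).comp (Ideal.Quotient.mkₐ A J)
  have hf₂ : ∀ b ∈ J, f₂ b = 0 := by
    intro b hb
    change l (e.symm (Ideal.Quotient.mk J b)) = 0
    rw [Ideal.Quotient.eq_zero_iff_mem.2 hb, map_zero, map_zero]
  have hf₂a : ∀ a : A, f₂ (algebraMap A B a) = Ideal.Quotient.mk K (algebraMap A B a) := by
    intro a
    rw [f₂.commutes]
    exact (f₁.commutes a).symm
  let N : Ideal (B ⧸ K) := J.map (Ideal.Quotient.mk K)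
  have hN : N ^ 2 = ⊥ := by
    rw [← Ideal.map_pow, eq_bot_iff, Ideal.map_le_iff_le_comap]
    intro x hx
    rw [Ideal.mem_comap, Ideal.mem_bot, Ideal.Quotient.eq_zero_iff_mem]
    exact Ideal.mem_sup_right hx
  have hf : f₁ = f₂ := by
    apply Algebra.FormallyUnramified.comp_injective (R := A) N hN
    refine AlgHom.ext fun b => ?_
    obtain ⟨a, ha⟩ := hs b
    change Ideal.Quotient.mk N (f₁ b) = Ideal.Quotient.mk N (f₂ b)
    rw [Ideal.Quotient.eq]
    have e1 : f₁ b - f₂ b = Ideal.Quotient.mk K (b - algebraMap A B a) := by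
      have e2 : f₂ b = f₂ (b - algebraMap A B a) + f₂ (algebraMap A B a) := by
        rw [← map_add, sub_add_cancel]
      rw [e2, hf₂ _ ha, hf₂a, zero_add, map_sub]
      rfl
    rw [e1]
    exact Ideal.mem_map_of_mem _ ha
  intro b hb
  have h1 : f₁ b = 0 := by rw [hf]; exact hf₂ b hb
  exact Ideal.Quotient.eq_zero_iff_mem.1 h1

section

variable (hJ : J ≤ (J.comap (algebraMap A B)).map (algebraMap A B) ⊔ J ^ 2)

include hJ in
/-- Nakayama -/
theorem exists_mul_mem (hfg : J.FG) : ∃ g : B, g - 1 ∈ J ∧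
    ∀ j ∈ J, g * j ∈ (J.comap (algebraMap A B)).map (algebraMap A B) := by
  obtain ⟨r, hr1, hr2⟩ := Submodule.exists_sub_one_mem_and_smul_le_of_fg_of_le_sup (I := J)
    (N := (J.comap (algebraMap A B)).map (algebraMap A B)) (N' := J) (P := J) hfg le_rfl (by
      rw [smul_eq_mul, ← pow_two]
      exact hJ)
  exact ⟨r, hr1, fun j hj => hr2 (Submodule.smul_mem_pointwise_smul _ _ _ hj)⟩

include hs hJ

theorem exists_first {y : B} (hy : y ∈ J) :
    ∃ a ∈ J.comap (algebraMap A B), y - algebraMap A B a ∈ J ^ 2 := by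
  obtain ⟨z, hz, y', hy', hzy⟩ := Submodule.mem_sup.1 (hJ hy)
  have key : ∀ z ∈ (J.comap (algebraMap A B)).map (algebraMap A B),
      ∃ a ∈ J.comap (algebraMap A B), z - algebraMap A B a ∈ J ^ 2 := by
    intro z hz
    rw [Ideal.map] at hz
    induction hz using Submodule.span_induction with
    | mem x hx =>
      obtain ⟨a, ha, rfl⟩ := hx
      exact ⟨a, ha, by rw [sub_self]; exact Ideal.zero_mem _⟩
    | zero => exact ⟨0, Ideal.zero_mem _, by simp⟩
    | add x y _ _ hx hy =>
      obtain ⟨a, ha, hxa⟩ := hx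
      obtain ⟨c, hc, hyc⟩ := hy
      refine ⟨a + c, Ideal.add_mem _ ha hc, ?_⟩
      have e : x + y - algebraMap A B (a + c) = (x - algebraMap A B a) + (y - algebraMap A B c) := by
        rw [map_add]; ring
      rw [e]
      exact Ideal.add_mem _ hxa hyc
    | smul b x _ hx =>
      obtain ⟨a, ha, hxa⟩ := hx
      obtain ⟨c, hc⟩ := hs b
      refine ⟨c * a, Ideal.mul_mem_left _ _ ha, ?_⟩
      have e : b • x - algebraMap A B (c * a) = b * (x - algebraMap A B a) +
          (b - algebraMap A B c) * algebraMap A B a := by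
        rw [map_mul, smul_eq_mul]; ring
      rw [e]
      refine Ideal.add_mem _ (Ideal.mul_mem_left _ _ hxa) ?_
      rw [pow_two]
      exact Ideal.mul_mem_mul hc ha
  obtain ⟨a, ha, hza⟩ := key z hz
  refine ⟨a, ha, ?_⟩
  have e : y - algebraMap A B a = (z - algebraMap A B a) + y' := by rw [← hzy]; ring
  rw [e]
  exact Ideal.add_mem _ hza hy'

theorem exists_pow_sub (j : ℕ) : ∀ b ∈ J ^ j, ∃ a ∈ (J.comap (algebraMap A B)) ^ j,
    b - algebraMap A B a ∈ J ^ (j + 1) := by
  have hmap : ∀ j, ∀ a ∈ (J.comap (algebraMap A B)) ^ j, algebraMap A B a ∈ J ^ j :=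
    fun j a ha => Ideal.le_comap_pow (algebraMap A B) j ha
  induction j with
  | zero =>
    intro b _
    obtain ⟨a, ha⟩ := hs b
    exact ⟨a, by simp, by simpa using ha⟩
  | succ j ih =>
    intro b hb
    rw [pow_succ] at hb
    refine Submodule.mul_induction_on hb ?_ ?_
    · intro x hx y hy
      obtain ⟨a, ha, hxa⟩ := ih x hx
      obtain ⟨c, hc, hyc⟩ := exists_first J hs hJ hy
      refine ⟨a * c, by rw [pow_succ]; exact Ideal.mul_mem_mul ha hc, ?_⟩
      have e : x * y - algebraMap A B (a * c) = (x - algebraMap A B a) * y +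
          algebraMap A B a * (y - algebraMap A B c) := by
        rw [map_mul]; ring
      rw [e]
      refine Ideal.add_mem _ ?_ ?_
      · rw [pow_succ _ (j + 1)]
        exact Ideal.mul_mem_mul hxa hy
      · have := Ideal.mul_mem_mul (hmap j a ha) hyc
        rwa [← pow_add] at this
    · rintro x y ⟨a, ha, hxa⟩ ⟨c, hc, hyc⟩
      refine ⟨a + c, Ideal.add_mem _ ha hc, ?_⟩
      have e : x + y - algebraMap A B (a + c) = (x - algebraMap A B a) + (y - algebraMap A B c) := by
        rw [map_add]; ring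
      rw [e]
      exact Ideal.add_mem _ hxa hyc

theorem exists_sub (j : ℕ) : ∀ b : B, ∃ a : A, b - algebraMap A B a ∈ J ^ j := by
  induction j with
  | zero => exact fun b => ⟨0, by simp⟩
  | succ j ih =>
    intro b
    obtain ⟨a, ha⟩ := ih b
    obtain ⟨c, -, hc⟩ := exists_pow_sub J hs hJ j _ ha
    exact ⟨a + c, by rw [map_add, ← sub_sub]; exact hc⟩

end

include hs in
/-- flatness: the powers of the ideal have the expected contractions -/
theorem comap_pow [Module.Flat A B] {g : B} (hg1 : g - 1 ∈ J)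
    (hg2 : ∀ j ∈ J, g * j ∈ (J.comap (algebraMap A B)).map (algebraMap A B)) (j : ℕ) {a : A}
    (ha : algebraMap A B a ∈ J ^ j) : a ∈ (J.comap (algebraMap A B)) ^ j := by
  set I := J.comap (algebraMap A B) with hI
  have h1 : ∀ j, ∀ b ∈ J ^ j, g ^ j * b ∈ (I ^ j).map (algebraMap A B) := by
    intro j
    induction j with
    | zero => intro b _; simp [Ideal.map_top]
    | succ j ih =>
      intro b hb
      rw [pow_succ] at hb
      refine Submodule.mul_induction_on hb ?_ ?_
      · intro x hx y hy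
        have e : g ^ (j + 1) * (x * y) = (g ^ j * x) * (g * y) := by ring
        rw [e, pow_succ, Ideal.map_mul]
        exact Ideal.mul_mem_mul (ih x hx) (hg2 y hy)
      · intro x y hx hy
        rw [mul_add]
        exact Ideal.add_mem _ hx hy
  have h2 := h1 j _ ha
  rw [Ideal.map, Ideal.span, Submodule.mem_span_set'] at h2
  obtain ⟨n, r, c, hc⟩ := h2
  have hc' : ∀ i, ∃ y ∈ I ^ j, algebraMap A B y = c i := fun i => (c i).2
  choose y hyI hy using hc'
  let f : Option (Fin n) → A := fun o => o.elim a (fun i => - y i)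
  let x : Option (Fin n) → B := fun o => o.elim (g ^ j) r
  have hrel : ∑ o, f o • x o = 0 := by
    rw [Fintype.sum_option]
    have h3 : ∑ i, y i • r i = g ^ j * algebraMap A B a := by
      rw [← hc]
      refine Finset.sum_congr rfl fun i _ => ?_
      rw [Algebra.smul_def, hy, smul_eq_mul, mul_comm]
    have h3' : ∑ i, f (some i) • x (some i) = - ∑ i, y i • r i := by
      rw [← Finset.sum_neg_distrib]
      exact Finset.sum_congr rfl fun i _ => neg_smul _ _
    rw [h3', h3]
    change a • g ^ j + _ = 0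
    rw [Algebra.smul_def]
    ring
  obtain ⟨m, α, z, hz1, hz2⟩ := Module.Flat.isTrivialRelation_of_sum_smul_eq_zero hrel
  have h4 : ∀ t, a * α none t ∈ I ^ j := by
    intro t
    have h5 := hz2 t
    rw [Fintype.sum_option] at h5
    simp only [f, Option.elim, neg_mul, Finset.sum_neg_distrib] at h5
    rw [add_neg_eq_zero] at h5
    rw [h5]
    exact Ideal.sum_mem _ fun i _ => Ideal.mul_mem_right _ _ (hyI i)
  choose β hβ using fun t => hs (z t)
  let γ : A := ∑ t, α none t * β t
  have h6 : g ^ j - algebraMap A B γ ∈ J := by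
    have h7 : g ^ j = ∑ t, α none t • z t := hz1 none
    have e : g ^ j - algebraMap A B γ = ∑ t, algebraMap A B (α none t) * (z t - algebraMap A B (β t)) := by
      rw [h7, map_sum, ← Finset.sum_sub_distrib]
      refine Finset.sum_congr rfl fun t _ => ?_
      rw [Algebra.smul_def, map_mul]
      ring
    rw [e]
    exact Ideal.sum_mem _ fun t _ => Ideal.mul_mem_left _ _ (hβ t)
  have h8 : g ^ j - 1 ∈ J := by
    have := Ideal.Quotient.eq.2 hg1
    rw [← Ideal.Quotient.eq, map_pow, this, ← map_pow, one_pow]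
  have h9 : 1 - γ ∈ I := by
    rw [hI, Ideal.mem_comap, map_sub, map_one]
    have e : 1 - algebraMap A B γ = (g ^ j - algebraMap A B γ) - (g ^ j - 1) := by ring
    rw [e]
    exact J.sub_mem h6 h8
  have h10 : a * γ ∈ I ^ j := by
    simp only [γ, Finset.mul_sum, ← mul_assoc]
    exact Ideal.sum_mem _ fun t _ => Ideal.mul_mem_right _ _ (h4 t)
  set ι := 1 - γ with hι
  have h11 : a = (∑ i ∈ Finset.range j, ι ^ i) * (a * γ) + ι ^ j * a := by
    have e : a * γ = (1 - ι) * a := by rw [hι]; ring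
    rw [e, ← mul_assoc, geom_sum_mul_neg]
    ring
  rw [h11]
  exact Ideal.add_mem _ (Ideal.mul_mem_left _ _ h10) (Ideal.mul_mem_right _ _ (Ideal.pow_mem_pow h9 j))

end K881.Infin
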