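import Mathlib.Algebra.Category.Ring.Constructions
import Mathlib.RingTheory.Localization.BaseChange
import Mathlib.RingTheory.FiniteType
import Mathlib.RingTheory.Localization.Away.Basic

/-!
# Cartesian squares after localization
-/

set_option autoImplicit false

universe u v w

open TensorProduct CategoryTheory

namespace K881.PushLoc

section

variable {R S A B : Type*} [CommRing R] [CommRing S] [CommRing A] [CommRing B]
  [Algebra R S] [Algebra R A] [Algebra S B] [Algebra A B] [Algebra R B]
  [IsScalarTower R S B] [IsScalarTower R A B]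

variable (R S A B) in
/-- `s ⊗ a ↦ s a` -/
noncomputable def mu : S ⊗[R] A →ₐ[S] B :=
  Algebra.TensorProduct.lift (Algebra.ofId S B) (IsScalarTower.toAlgHom R A B)
    (fun _ _ => Commute.all _ _)

@[simp] theorem mu_tmul (s : S) (a : A) : mu R S A B (s ⊗ₜ a) = algebraMap S B s * algebraMap A B a := by
  simp [mu, Algebra.ofId_apply]

/-- the square with corner `g` -/
def Good (R S A B : Type*) [CommRing R] [CommRing S] [CommRing A] [CommRing B]
  [Algebra R S] [Algebra R A] [Algebra S B] [Algebra A B] [Algebra R B]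
  [IsScalarTower R S B] [IsScalarTower R A B] (g : S) : Prop :=
  (∀ b : B, ∃ (N : ℕ) (z : S ⊗[R] A), mu R S A B z = g ^ N • b) ∧
    ∀ z : S ⊗[R] A, mu R S A B z = 0 → g • z = 0

theorem Good.mul {g : S} (hg : Good R S A B g) (h : S) : Good R S A B (g * h) := by
  refine ⟨fun b => ?_, fun z hz => ?_⟩
  · obtain ⟨N, z, hz⟩ := hg.1 b
    refine ⟨N, h ^ N • z, ?_⟩
    rw [map_smul, hz, mul_pow, mul_comm, mul_smul]
  · rw [mul_comm, mul_smul, hg.2 z hz, smul_zero]

theorem exists_good [IsNoetherianRing (S ⊗[R] A)] [Algebra.FiniteType S B] (n : Ideal S) [n.IsPrime]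
    (hsurj : ∀ b : B, ∃ g ∉ n, ∃ z : S ⊗[R] A, mu R S A B z = g • b)
    (hinj : ∀ z : S ⊗[R] A, mu R S A B z = 0 → ∃ g ∉ n, g • z = 0) :
    ∃ g ∉ n, Good R S A B g := by
  classical
  -- surjectivity
  obtain ⟨s, hs⟩ := Algebra.FiniteType.out (R := S) (A := B)
  choose gs hgs zs hzs using hsurj
  let g₁ : S := ∏ b ∈ s, gs b
  have hg₁ : g₁ ∉ n := by
    intro h
    obtain ⟨b, -, hb⟩ := (Ideal.IsPrime.prod_mem_iff (p := n)).1 h
    exact hgs b hb
  have h1 : ∀ b : B, ∃ (N : ℕ) (z : S ⊗[R] A), mu R S A B z = g₁ ^ N • b := by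
    intro b
    have hb : b ∈ Algebra.adjoin S (s : Set B) := by rw [hs]; trivial
    induction hb using Algebra.adjoin_induction with
    | mem x hx =>
      refine ⟨1, (∏ b ∈ s.erase x, gs b) • zs x, ?_⟩
      rw [map_smul, hzs, ← mul_smul, pow_one, mul_comm, Finset.mul_prod_erase s gs (Finset.mem_coe.1 hx)]
    | algebraMap r => exact ⟨0, r ⊗ₜ 1, by simp⟩
    | add x y _ _ hx hy =>
      obtain ⟨N, z, hz⟩ := hx
      obtain ⟨N', z', hz'⟩ := hy
      refine ⟨N + N', g₁ ^ N' • z + g₁ ^ N • z', ?_⟩
      rw [map_add, map_smul, map_smul, hz, hz', smul_add, pow_add, mul_smul, mul_smul,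
        smul_comm (g₁ ^ N') (g₁ ^ N) x]
    | mul x y _ _ hx hy =>
      obtain ⟨N, z, hz⟩ := hx
      obtain ⟨N', z', hz'⟩ := hy
      refine ⟨N + N', z * z', ?_⟩
      rw [map_mul, hz, hz', smul_mul_smul_comm, pow_add]
  -- injectivity
  obtain ⟨t, ht⟩ := (isNoetherianRing_iff_ideal_fg (S ⊗[R] A)).1 inferInstance
    (RingHom.ker (mu R S A B))
  have hch : ∀ z : S ⊗[R] A, ∃ g ∉ n, mu R S A B z = 0 → g • z = 0 := by
    intro z
    by_cases hz : mu R S A B z = 0
    · obtain ⟨g, hg, hgz⟩ := hinj z hz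
      exact ⟨g, hg, fun _ => hgz⟩
    · exact ⟨1, Ideal.IsPrime.one_notMem inferInstance, fun h => absurd h hz⟩
  choose gt hgt hgt' using hch
  let g₂ : S := ∏ z ∈ t, gt z
  have hg₂ : g₂ ∉ n := by
    intro h
    obtain ⟨b, -, hb⟩ := (Ideal.IsPrime.prod_mem_iff (p := n)).1 h
    exact hgt b hb
  have h2 : ∀ z : S ⊗[R] A, mu R S A B z = 0 → g₂ • z = 0 := by
    intro z hz
    have hz' : z ∈ Ideal.span (t : Set (S ⊗[R] A)) := by
      have : Submodule.span (S ⊗[R] A) (t : Set (S ⊗[R] A)) = RingHom.ker (mu R S A B) := ht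
      change z ∈ Submodule.span (S ⊗[R] A) (t : Set (S ⊗[R] A))
      rw [this]
      exact hz
    induction hz' using Submodule.span_induction with
    | mem x hx =>
      have hx0 : mu R S A B x = 0 := by
        have : x ∈ RingHom.ker (mu R S A B) := ht ▸ Submodule.subset_span hx
        exact this
      have e : g₂ = (∏ b ∈ t.erase x, gt b) * gt x := by
        rw [mul_comm, Finset.mul_prod_erase t gt (Finset.mem_coe.1 hx)]
      rw [e, mul_smul, hgt' x hx0, smul_zero]
    | zero => exact smul_zero _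
    | add x y hx' hy' hx hy =>
      have hx0 : mu R S A B x = 0 := by
        have : x ∈ RingHom.ker (mu R S A B) := ht ▸ hx'
        exact this
      have hy0 : mu R S A B y = 0 := by
        have : y ∈ RingHom.ker (mu R S A B) := ht ▸ hy'
        exact this
      rw [smul_add, hx hx0, hy hy0, add_zero]
    | smul a x hx' hx =>
      have hx0 : mu R S A B x = 0 := by
        have : x ∈ RingHom.ker (mu R S A B) := ht ▸ hx'
        exact this
      rw [smul_eq_mul, ← mul_smul_comm, hx hx0, mul_zero]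
  refine ⟨g₁ * g₂, fun h => ?_, fun b => ?_, fun z hz => ?_⟩
  · rcases Ideal.IsPrime.mem_or_mem inferInstance h with h | h
    · exact hg₁ h
    · exact hg₂ h
  · obtain ⟨N, z, hz⟩ := h1 b
    refine ⟨N, g₂ ^ N • z, ?_⟩
    rw [map_smul, hz, mul_pow, mul_comm, mul_smul]
  · rw [mul_smul, h2 z hz, smul_zero]

end

section

variable {R S A B : Type u} [CommRing R] [CommRing S] [CommRing A] [CommRing B]
  [Algebra R S] [Algebra R A] [Algebra S B] [Algebra A B] [Algebra R B]
  [IsScalarTower R S B] [IsScalarTower R A B]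

theorem isPushout {g : S} (hg : Good R S A B g) :
    IsPushout (CommRingCat.ofHom (algebraMap R A))
      (CommRingCat.ofHom ((algebraMap S (Localization.Away g)).comp (algebraMap R S)))
      (CommRingCat.ofHom ((algebraMap B (Localization.Away (algebraMap S B g))).comp
        (algebraMap A B)))
      (CommRingCat.ofHom (Localization.awayMap (algebraMap S B) g)) := by
  let Sg := Localization.Away g
  let Bg := Localization.Away (algebraMap S B g)
  let _ : Algebra Sg Bg := (Localization.awayMap (algebraMap S B) g).toAlgebra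
  have hst : IsScalarTower S Sg Bg := .of_algebraMap_eq fun s => by
    change algebraMap S Bg s = Localization.awayMap (algebraMap S B) g (algebraMap S Sg s)
    rw [Localization.awayMap, IsLocalization.Away.map, IsLocalization.map_eq,
      ← IsScalarTower.algebraMap_apply]
  have hst2 : IsScalarTower R Sg Bg := .of_algebraMap_eq fun r => by
    rw [IsScalarTower.algebraMap_apply R S Sg, ← IsScalarTower.algebraMap_apply S Sg Bg,
      ← IsScalarTower.algebraMap_apply R S Bg]
  have hunit : ∀ x : Submonoid.powers g, IsUnit (algebraMap S Bg (x : S)) := by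
    rintro ⟨_, i, rfl⟩
    rw [IsScalarTower.algebraMap_apply S B Bg, map_pow, map_pow]
    exact (IsLocalization.Away.algebraMap_isUnit (algebraMap S B g)).pow i
  let f : (S ⊗[R] A) →ₗ[S] Bg := (IsScalarTower.toAlgHom S B Bg).toLinearMap ∘ₗ
    (mu R S A B).toLinearMap
  have hf : ∀ z, f z = algebraMap B Bg (mu R S A B z) := fun z => rfl
  have hloc : IsLocalizedModule (Submonoid.powers g) f := by
    refine ⟨fun x => ?_, fun y => ?_, fun {z₁ z₂} h => ?_⟩
    · have h1 := (hunit x).map (Algebra.lmul S Bg)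
      have h2 : algebraMap S (Module.End S Bg) (x : S) = Algebra.lmul S Bg (algebraMap S Bg (x : S)) := by
        ext y
        simp [Algebra.smul_def]
      rw [h2]
      exact h1
    · obtain ⟨⟨b, ⟨_, i, rfl⟩⟩, hb⟩ := IsLocalization.surj
        (Submonoid.powers (algebraMap S B g)) y
      obtain ⟨N, z, hz⟩ := hg.1 b
      refine ⟨(z, ⟨g ^ (N + i), ⟨N + i, rfl⟩⟩), ?_⟩
      change (g ^ (N + i)) • y = f z
      rw [hf, hz, Algebra.smul_def, Algebra.smul_def, map_mul, ← IsScalarTower.algebraMap_apply,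
        ← hb, pow_add, map_mul]
      simp only [map_pow]
      rw [← IsScalarTower.algebraMap_apply S B Bg]
      ring
    · have h1 : algebraMap B Bg (mu R S A B (z₁ - z₂)) = 0 := by
        rw [← hf, map_sub, h, sub_self]
      obtain ⟨⟨_, i, rfl⟩, hi⟩ := (IsLocalization.map_eq_zero_iff
        (Submonoid.powers (algebraMap S B g)) Bg _).1 h1
      have h2 : mu R S A B (g ^ i • (z₁ - z₂)) = 0 := by
        rw [map_smul, Algebra.smul_def, map_pow]
        exact hi
      have h3 := hg.2 _ h2
      refine ⟨⟨g ^ (i + 1), ⟨i + 1, rfl⟩⟩, ?_⟩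
      change g ^ (i + 1) • z₁ = g ^ (i + 1) • z₂
      rw [← sub_eq_zero, ← smul_sub, pow_succ', mul_smul]
      exact h3
  have hbc : IsBaseChange Sg f := (isLocalizedModule_iff_isBaseChange (Submonoid.powers g) Sg f).1 hloc
  have hbc2 : IsBaseChange S (TensorProduct.mk R S A 1) := TensorProduct.isBaseChange R A S
  have hbc3 := hbc2.comp hbc
  have hpo : Algebra.IsPushout R Sg A Bg := by
    refine ⟨?_⟩
    have e : (IsScalarTower.toAlgHom R A Bg).toLinearMap =
        (f.restrictScalars R) ∘ₗ (TensorProduct.mk R S A 1) := by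
      refine LinearMap.ext fun a => ?_
      change algebraMap A Bg a = f ((1 : S) ⊗ₜ a)
      rw [hf, mu_tmul, map_one, one_mul, ← IsScalarTower.algebraMap_apply]
    rw [e]
    exact hbc3
  have hpo' : Algebra.IsPushout R A Sg Bg := hpo.symm
  exact CommRingCat.isPushout_of_isPushout R A Sg Bg

end

end K881.PushLoc
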