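import Groth.Agent.LunaSt.K881.Typ
import Mathlib.Algebra.Order.Ring.GeomSum
import Mathlib.RingTheory.Ideal.Maps
import Mathlib.RingTheory.Ideal.Quotient.Noetherian
import Mathlib.RingTheory.KrullDimension.Zero

/-!
# The topologies on the parts of a `G`-algebra
-/

set_option autoImplicit false
set_option linter.unusedSectionVars false

universe u v w w'

open TensorProduct HopfRep

namespace K881.Typ

open K881.Rey K881.FinType

variable {k : Type u} [Field k] {H : Type v} [CommRing H] [HopfAlgebra k H]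
variable {A : Type w} [CommRing A] [Algebra k A] [Comod k H A] [GLin.IsCoactAlg k H A]

theorem ret_tmul_mem (α : H →ₗ[k] k) {J : Ideal A}
    (hJ : IsSubcomod (k := k) (A := H) (J.restrictScalars k)) {a : A} (ha : a ∈ J) (h : H) :
    K191.Integral.ret A α (a ⊗ₜ[k] h) ∈ J := by
  obtain ⟨t, ht⟩ := hJ a ha
  rw [K191.Integral.ret]
  simp only [LinearMap.comp_apply, LinearMap.rTensor_tmul, LinearEquiv.coe_coe]
  rw [← ht]
  clear ht
  induction t with
  | zero => simp
  | add x y hx hy => simp only [map_add, add_tmul]; exact J.add_mem hx hy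
  | tmul x c =>
    have hx : (x : A) ∈ J := x.2
    simp only [LinearMap.rTensor_tmul, Submodule.subtype_apply, assoc_tmul, LinearMap.lTensor_tmul,
      rid_tmul]
    exact Submodule.smul_of_tower_mem J _ hx

theorem ret_mem (α : H →ₗ[k] k) {J : Ideal A}
    (hJ : IsSubcomod (k := k) (A := H) (J.restrictScalars k)) {z : A ⊗[k] H}
    (hz : z ∈ J • (⊤ : Submodule A (A ⊗[k] H))) : K191.Integral.ret A α z ∈ J := by
  refine Submodule.smul_induction_on (p := fun z => K191.Integral.ret A α z ∈ J) hz ?_ ?_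
  · intro r hr y _
    induction y with
    | zero => rw [smul_zero, map_zero]; exact J.zero_mem
    | add x y hx hy => rw [smul_add, map_add]; exact J.add_mem (hx trivial) (hy trivial)
    | tmul x h =>
      rw [TensorProduct.smul_tmul', smul_eq_mul]
      exact ret_tmul_mem α hJ (J.mul_mem_right _ hr) h
  · intro x y hx hy
    rw [map_add]
    exact J.add_mem hx hy

theorem coact_mem_pow {J : Ideal A} (hJ : IsSubcomod (k := k) (A := H) (J.restrictScalars k))
    (n : ℕ) {a : A} (ha : a ∈ J ^ n) :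
    Comod.coact (k := k) (A := H) a ∈ J ^ n • (⊤ : Submodule A (A ⊗[k] H)) := by
  rw [Ideal.smul_top_eq_map, Submodule.restrictScalars_mem]
  have h1 : J ≤ (J.map (algebraMap A (A ⊗[k] H))).comap (GLin.coactAlgHom k H A).toRingHom := by
    intro x hx
    obtain ⟨t, ht⟩ := hJ x hx
    change Comod.coact (k := k) (A := H) x ∈ J.map (algebraMap A (A ⊗[k] H))
    rw [← ht]
    clear ht
    induction t with
    | zero => simp
    | add x y hx hy => rw [map_add]; exact Ideal.add_mem _ hx hy
    | tmul x c =>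
      have hx' : (x : A) ∈ J := x.2
      have e : (J.restrictScalars k).subtype.rTensor H (x ⊗ₜ[k] c) =
          (1 : A) ⊗ₜ[k] c * algebraMap A (A ⊗[k] H) (x : A) := by
        rw [Algebra.TensorProduct.algebraMap_apply]
        simp
      rw [e]
      exact Ideal.mul_mem_left _ _ (Ideal.mem_map_of_mem _ hx')
  have h2 : J ^ n ≤ ((J ^ n).map (algebraMap A (A ⊗[k] H))).comap
      (GLin.coactAlgHom k H A).toRingHom := by
    rw [Ideal.map_pow]
    exact (Ideal.pow_right_mono h1 n).trans (Ideal.le_comap_pow _ n)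
  exact h2 ha

theorem map_smul_top_mem {R M N : Type*} [CommRing R] [AddCommGroup M] [Module R M]
    [AddCommGroup N] [Module R N] (f : M →ₗ[R] N) (I : Ideal R) {x : M}
    (hx : x ∈ I • (⊤ : Submodule R M)) : f x ∈ I • (⊤ : Submodule R N) := by
  refine Submodule.smul_induction_on (p := fun x => f x ∈ I • (⊤ : Submodule R N)) hx ?_ ?_
  · intro r hr y _
    rw [map_smul]
    exact Submodule.smul_mem_smul hr trivial
  · intro x y hx hy
    rw [map_add]
    exact Submodule.add_mem _ hx hy

theorem cc_mem_pow (U : Submodule k H) {J : Ideal A}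
    (hJ : IsSubcomod (k := k) (A := H) (J.restrictScalars k)) (n : ℕ) {a : A} (ha : a ∈ J ^ n) :
    cc U a ∈ J ^ n • (⊤ : Submodule A (A ⊗[k] U)) :=
  map_smul_top_mem (rtA A U) (J ^ n) (coact_mem_pow hJ n ha)

theorem isArtinianRing_quotient_pow {S : Type*} [CommRing S] [IsNoetherianRing S] (n : Ideal S)
    [n.IsMaximal] (l : ℕ) : IsArtinianRing (S ⧸ n ^ l) := by
  have : Ring.KrullDimLE 0 (S ⧸ n ^ l) := .mk₀ fun P hP => by
    have h0 : n ^ l ≤ P.comap (Ideal.Quotient.mk (n ^ l)) := by
      intro x hx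
      rw [Ideal.mem_comap, Ideal.Quotient.eq_zero_iff_mem.2 hx]
      exact P.zero_mem
    have h1 : n ≤ P.comap (Ideal.Quotient.mk (n ^ l)) := Ideal.IsPrime.le_of_pow_le h0
    have h2 : P.comap (Ideal.Quotient.mk (n ^ l)) = n :=
      (Ideal.IsMaximal.eq_of_le inferInstance (Ideal.comap_isPrime _ P).ne_top h1).symm
    rw [← Ideal.map_comap_of_surjective _ Ideal.Quotient.mk_surjective P, h2]
    refine Ideal.IsMaximal.map_of_surjective_of_ker_le Ideal.Quotient.mk_surjective ?_
    rw [h2] at h0
    rw [Ideal.mk_ker]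
    exact h0
  exact IsNoetherianRing.isArtinianRing_of_krullDimLE_zero

theorem isArtinian_quotient_pow {S : Type*} [CommRing S] [IsNoetherianRing S] (n : Ideal S)
    [n.IsMaximal] (l : ℕ) (M : Type*) [AddCommGroup M] [Module S M] [Module.Finite S M] :
    IsArtinian S (M ⧸ (n ^ l • ⊤ : Submodule S M)) := by
  have := isArtinianRing_quotient_pow n l
  have : Module.Finite (S ⧸ n ^ l) (M ⧸ (n ^ l • ⊤ : Submodule S M)) :=
    Module.Finite.of_restrictScalars_finite S _ _
  have : IsArtinian (S ⧸ n ^ l) (M ⧸ (n ^ l • ⊤ : Submodule S M)) := inferInstance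
  exact isArtinian_of_surjective_algebraMap (R := S ⧸ n ^ l) Ideal.Quotient.mk_surjective

/-- The adic topology of a stable ideal on the parts of the algebra is the one of the invariants. -/
theorem exists_pow {α : H →ₗ[k] k} (hα : NInt α) [IsNoetherianRing A] {U : Submodule k H} (hU : LC U)
    [Module.Finite k U] {J : Ideal A} (hJ : IsSubcomod (k := k) (A := H) (J.restrictScalars k))
    (n : Ideal (GLin.invariants k H A)) [n.IsMaximal]
    (hn : ∀ r : GLin.invariants k H A, (r : A) ∈ J → r ∈ n) (l : ℕ) :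
    ∃ j : ℕ, ∀ a ∈ iso A U, a ∈ J ^ j → a ∈ (n ^ l • iso A U : Submodule (GLin.invariants k H A) A) := by
  classical
  have hS := isNoetherianRing_invariants (A := A) hα
  have hfin := finite_iso (A := A) (U := U) hα
  let S := GLin.invariants k H A
  let M := iso A U
  have hart : IsArtinian S (M ⧸ (n ^ l • ⊤ : Submodule S M)) := isArtinian_quotient_pow n l M
  let K : ℕ → Submodule S M := fun j => ((J ^ j).restrictScalars S).comap M.subtype
  have hK : ∀ j (m : M), m ∈ K j ↔ (m : A) ∈ J ^ j := fun j m => Iff.rfl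
  have hKanti : ∀ {i j : ℕ}, i ≤ j → K j ≤ K i := by
    intro i j hij m hm
    exact Ideal.pow_le_pow_right hij hm
  let f : ℕ →o (Submodule S (M ⧸ (n ^ l • ⊤ : Submodule S M)))ᵒᵈ :=
    { toFun := fun j => OrderDual.toDual ((K j).map (n ^ l • ⊤ : Submodule S M).mkQ)
      monotone' := fun i j hij => OrderDual.toDual_le_toDual.2 (Submodule.map_mono (hKanti hij)) }
  obtain ⟨j₀, hj₀⟩ := IsArtinian.monotone_stabilizes f
  refine ⟨j₀, fun a ha haJ => ?_⟩
  let m : M := ⟨a, ha⟩
  -- the submodule `nˡ (A ⊗ U)`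
  let P : Submodule A (A ⊗[k] U) := (n ^ l).map S.val • ⊤
  have hcP : ∀ x ∈ (n ^ l • ⊤ : Submodule S M), cc U (x : A) ∈ P := by
    intro x hx
    refine Submodule.smul_induction_on (p := fun x : M => cc U (x : A) ∈ P) hx ?_ ?_
    · intro r hr y _
      change cc U ((r : A) * (y : A)) ∈ P
      rw [cc_smul r.2]
      exact Submodule.smul_mem_smul (Ideal.mem_map_of_mem S.val hr) trivial
    · intro x y hx hy
      change cc U ((x : A) + (y : A)) ∈ P
      rw [cc_add]
      exact Submodule.add_mem _ hx hy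
  have hall : ∀ j, cc U a ∈ J ^ j • (⊤ : Submodule A (A ⊗[k] U)) ⊔ P := by
    intro j
    have h1 : (n ^ l • ⊤ : Submodule S M).mkQ m ∈
        (K (max j₀ j)).map (n ^ l • ⊤ : Submodule S M).mkQ := by
      have h2 : (K j₀).map (n ^ l • ⊤ : Submodule S M).mkQ =
          (K (max j₀ j)).map (n ^ l • ⊤ : Submodule S M).mkQ := hj₀ (max j₀ j) (le_max_left _ _)
      rw [← h2]
      exact ⟨m, haJ, rfl⟩
    obtain ⟨m', hm', hmm'⟩ := h1
    have h3 : m' - m ∈ (n ^ l • ⊤ : Submodule S M) := (Submodule.Quotient.eq _).1 hmm'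
    have h4 : cc U a = cc U (m' : A) - cc U ((m' - m : M) : A) := by
      have e : (m' : A) = a + ((m' - m : M) : A) := by
        change (m' : A) = a + ((m' : A) - a)
        ring
      conv_rhs => rw [e, cc_add]
      have e2 : ((⟨a + ((m' - m : M) : A), by rw [← e]; exact m'.2⟩ : M) - m : M) = m' - m := by
        apply Subtype.ext
        change a + ((m' : A) - a) - a = (m' : A) - a
        ring
      abel
    rw [h4]
    refine Submodule.sub_mem _ (Submodule.mem_sup_left ?_) (Submodule.mem_sup_right (hcP _ h3))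
    exact Submodule.smul_mono_left (Ideal.pow_le_pow_right (le_max_right j₀ j))
      (cc_mem_pow U hJ _ hm')
  have hkr : (P.mkQ (cc U a)) ∈ (⨅ i : ℕ, J ^ i • ⊤ : Submodule A ((A ⊗[k] U) ⧸ P)) := by
    rw [Submodule.mem_iInf]
    intro j
    obtain ⟨y, hy, z, hz, hyz⟩ := Submodule.mem_sup.1 (hall j)
    have h5 : P.mkQ (cc U a) = P.mkQ y := by
      rw [← hyz, map_add]
      have : P.mkQ z = 0 := (Submodule.Quotient.mk_eq_zero P).2 hz
      rw [this, add_zero]
    rw [h5]
    exact map_smul_top_mem P.mkQ (J ^ j) hy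
  obtain ⟨r, hr⟩ := (Ideal.mem_iInf_smul_pow_eq_bot_iff J (P.mkQ (cc U a))).1 hkr
  have hP : (1 - (r : A)) • cc U a ∈ P := by
    have h6 : P.mkQ ((1 - (r : A)) • cc U a) = 0 := by
      rw [map_smul, sub_smul, one_smul, hr, sub_self]
    exact (Submodule.Quotient.mk_eq_zero P).1 h6
  have hPret : ∀ z ∈ P, K191.Integral.ret A α (inc A U z) ∈ (n ^ l • iso A U : Submodule S A) := by
    intro z hz
    refine Submodule.smul_induction_on (p := fun z => K191.Integral.ret A α (inc A U z) ∈
      (n ^ l • iso A U : Submodule S A)) hz ?_ ?_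
    · intro c hc y _
      rw [Ideal.map] at hc
      refine Submodule.span_induction (p := fun c _ => ∀ y : A ⊗[k] U,
        K191.Integral.ret A α (inc A U (c • y)) ∈ (n ^ l • iso A U : Submodule S A)) ?_ ?_ ?_ ?_ hc y
      · rintro _ ⟨ν, hν, rfl⟩ y
        rw [map_smul]
        have h7 := ret_inv_smul α ν.2 (inc A U y)
        have h8 : K191.Integral.ret A α (S.val ν • inc A U y) =
          ν • K191.Integral.ret A α (inc A U y) := h7
        rw [h8]
        exact Submodule.smul_mem_smul hν (ret_mem_iso hα hU y)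
      · intro y
        rw [zero_smul, map_zero, map_zero]
        exact Submodule.zero_mem _
      · intro c d _ _ hc hd y
        rw [add_smul, map_add, map_add]
        exact Submodule.add_mem _ (hc y) (hd y)
      · intro b c _ hc y
        rw [smul_eq_mul, mul_comm, mul_smul]
        exact hc (b • y)
    · intro x y hx hy
      rw [map_add, map_add]
      exact Submodule.add_mem _ hx hy
  have h9 := hPret _ hP
  rw [ret_smul_cc α _ ha] at h9
  have hρJ : rey A α (r : A) ∈ J := rey_mem_of_isSubcomod α _ hJ r.2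
  let ρ : S := ⟨rey A α (r : A), rey_mem hα _⟩
  have hρ : ρ ∈ n := hn ρ hρJ
  have h10 : rey A α (1 - (r : A)) = ((1 - ρ : S) : A) := by
    rw [map_sub, rey_eq_self hα (GLin.invariants k H A).one_mem]
    rfl
  rw [h10] at h9
  have h11 : (1 - ρ) • a ∈ (n ^ l • iso A U : Submodule S A) := h9
  have h12 : a = (∑ i ∈ Finset.range l, ρ ^ i) • ((1 - ρ) • a) + (ρ ^ l) • a := by
    rw [← mul_smul, geom_sum_mul_neg, ← add_smul, sub_add_cancel, one_smul]
  rw [h12]
  exact Submodule.add_mem _ (Submodule.smul_mem _ _ h11)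
    (Submodule.smul_mem_smul (Ideal.pow_mem_pow hρ l) ha)

end K881.Typ
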