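import Groth.Agent.LunaSt.K881.OrbFF
import Groth.Agent.LunaSt.K881.Typ2
import Groth.Agent.LunaSt.K881.FinInv
import Groth.Agent.LunaSt.K881.EtLoc
import Groth.Agent.LunaSt.K881.PushLoc

/-!
# Luna's fundamental lemma, affine case
-/

set_option autoImplicit false
set_option linter.unusedSectionVars false

universe u v w

open TensorProduct HopfRep

namespace K881.Luna

open K881.Rey K881.FinType K881.Typ

variable {k : Type u} [Field k] {H : Type v} [CommRing H] [HopfAlgebra k H]
variable {A B : Type w} [CommRing A] [CommRing B] [Algebra k A] [Algebra k B]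
  [Comod k H A] [GLin.IsCoactAlg k H A] [Comod k H B] [GLin.IsCoactAlg k H B]
  (φ : A →ₐ[k] B) (hφ : Hoch.IsComodHom H φ.toLinearMap)

include hφ

theorem coact_map (a : A) : Comod.coact (k := k) (A := H) (φ a) =
    φ.toLinearMap.rTensor H (Comod.coact (k := k) (A := H) a) := LinearMap.congr_fun hφ a

theorem orbitHom_comp (w : B →ₐ[k] k) (a : A) :
    GLin.orbitHom k H (w.comp φ) a = GLin.orbitHom k H w (φ a) := by
  rw [K690.Orbits.orbitHom_apply, K690.Orbits.orbitHom_apply, coact_map φ hφ,
    ← LinearMap.comp_apply (w.toLinearMap.rTensor H), ← LinearMap.rTensor_comp]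
  rfl

/-- the orbit is mapped isomorphically when the stabilisers agree -/
theorem exists_sub (w : B →ₐ[k] k) (hφw : GLin.IsClosedOrbit k H (w.comp φ))
    (hst : GLin.stabIdeal k H (w.comp φ) = GLin.stabIdeal k H w) (b : B) :
    ∃ a : A, b - φ a ∈ RingHom.ker (GLin.orbitHom k H w) := by
  have h1 : GLin.orbitHom k H w b ∈ (GLin.orbitHom k H (w.comp φ)).range := by
    apply OrbFF.mem_range_of_comul_sub_mem hφw
    rw [hst]
    have h2 : Coalgebra.comul (R := k) (GLin.orbitHom k H w b) =
        (GLin.orbitHom k H w).toLinearMap.rTensor H (Comod.coact (k := k) (A := H) b) :=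
      K690.Orbits.isComodHom_orbitHom w b
    rw [h2]
    rw [K690.Orbits.orbitHom_apply (A := H) w b]
    generalize Comod.coact (k := k) (A := H) b = z
    induction z with
    | zero => simp
    | add x y hx hy =>
      simp only [map_add, tmul_add]
      rw [add_sub_add_comm]
      exact Ideal.add_mem _ hx hy
    | tmul b h =>
      have e : (GLin.orbitHom k H w).toLinearMap.rTensor H (b ⊗ₜ[k] h) -
          (1 : H) ⊗ₜ[k] (TensorProduct.lid k H (w.toLinearMap.rTensor H (b ⊗ₜ[k] h))) =
          ((1 : H) ⊗ₜ[k] h) * (Algebra.TensorProduct.includeLeft : H →ₐ[k] H ⊗[k] H)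
            (GLin.orbitHom k H w (b - algebraMap k B (w b))) := by
        rw [map_sub, AlgHom.commutes, map_sub, Algebra.TensorProduct.includeLeft_apply,
          AlgHom.commutes, mul_sub]
        simp [Algebra.algebraMap_eq_smul_one, TensorProduct.smul_tmul]
      rw [e]
      refine Ideal.mul_mem_left _ _ (Ideal.mem_map_of_mem _ (Ideal.mem_map_of_mem _ ?_))
      rw [RingHom.mem_ker, map_sub, AlgHom.commutes]
      simp
  obtain ⟨a, ha⟩ := h1
  refine ⟨a, ?_⟩
  have ha' : GLin.orbitHom k H (w.comp φ) a = GLin.orbitHom k H w b := ha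
  rw [RingHom.mem_ker, map_sub, ← ha', orbitHom_comp φ hφ, sub_self]

theorem map_ret (α : H →ₗ[k] k) (z : A ⊗[k] H) :
    φ (K191.Integral.ret A α z) = K191.Integral.ret B α (φ.toLinearMap.rTensor H z) := by
  induction z with
  | zero => simp
  | add x y hx hy => simp only [map_add, hx, hy]
  | tmul a h =>
    rw [LinearMap.rTensor_tmul, K191.Integral.ret, K191.Integral.ret]
    simp only [LinearMap.comp_apply, LinearMap.rTensor_tmul, LinearEquiv.coe_coe,
      AlgHom.toLinearMap_apply, coact_map φ hφ]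
    generalize Comod.coact (k := k) (A := H) a = z
    induction z with
    | zero => simp
    | add x y hx hy => simp only [map_add, add_tmul, hx, hy]
    | tmul x c => simp

omit hφ in
/-- powers of a stable ideal are stable -/
theorem isSubcomod_pow {J : Ideal B} (hJ : IsSubcomod (k := k) (A := H) (J.restrictScalars k))
    (n : ℕ) : IsSubcomod (k := k) (A := H) ((J ^ n).restrictScalars k) := by
  intro b hb
  have h1 := coact_mem_pow hJ n hb
  refine Submodule.smul_induction_on (p := fun z => z ∈ LinearMap.range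
    (((J ^ n).restrictScalars k).subtype.rTensor H)) h1 ?_ ?_
  · intro r hr y _
    induction y with
    | zero => rw [smul_zero]; exact Submodule.zero_mem _
    | add x y hx hy => rw [smul_add]; exact Submodule.add_mem _ (hx trivial) (hy trivial)
    | tmul x h =>
      refine ⟨(⟨r * x, Ideal.mul_mem_right _ _ hr⟩ : (J ^ n).restrictScalars k) ⊗ₜ h, ?_⟩
      rw [LinearMap.rTensor_tmul, TensorProduct.smul_tmul']
      rfl
  · intro x y hx hy
    exact Submodule.add_mem _ hx hy

/-- surjectivity modulo powers on the parts of the algebras -/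
theorem exists_iso_sub {α : H →ₗ[k] k} (hα : NInt α) {U : Submodule k H} (hU : LC U)
    {J : Ideal B} (hJ : IsSubcomod (k := k) (A := H) (J.restrictScalars k)) (j : ℕ)
    (hs : ∀ b : B, ∃ a : A, b - φ a ∈ J ^ j) {b : B} (hb : b ∈ iso B U) :
    ∃ a ∈ iso A U, b - φ a ∈ J ^ j ∧ b - φ a ∈ iso B U := by
  have h1 : ∀ z : B ⊗[k] U, ∃ ζ : A ⊗[k] U, z - φ.toLinearMap.rTensor U ζ ∈
      J ^ j • (⊤ : Submodule B (B ⊗[k] U)) := by
    intro z
    induction z with
    | zero => exact ⟨0, by simp⟩
    | add x y hx hy =>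
      obtain ⟨ζ, hζ⟩ := hx
      obtain ⟨ξ, hξ⟩ := hy
      refine ⟨ζ + ξ, ?_⟩
      rw [map_add, add_sub_add_comm]
      exact Submodule.add_mem _ hζ hξ
    | tmul b u =>
      obtain ⟨a, ha⟩ := hs b
      refine ⟨a ⊗ₜ u, ?_⟩
      rw [LinearMap.rTensor_tmul, ← TensorProduct.sub_tmul]
      have e : (b - φ.toLinearMap a) ⊗ₜ[k] u = (b - φ a) • ((1 : B) ⊗ₜ[k] u) := by
        rw [TensorProduct.smul_tmul', smul_eq_mul, mul_one]
        rfl
      rw [e]
      exact Submodule.smul_mem_smul ha trivial
  obtain ⟨ζ, hζ⟩ := h1 (cc U b)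
  have h2 : φ (K191.Integral.ret A α (inc A U ζ)) =
      K191.Integral.ret B α (inc B U (φ.toLinearMap.rTensor U ζ)) := by
    rw [map_ret φ hφ]
    congr 1
    rw [inc_apply, inc_apply, ← LinearMap.comp_apply, ← LinearMap.comp_apply,
      LinearMap.rTensor_comp_lTensor, LinearMap.lTensor_comp_rTensor]
  have h3 : b - φ (K191.Integral.ret A α (inc A U ζ)) =
      K191.Integral.ret B α (inc B U (cc U b - φ.toLinearMap.rTensor U ζ)) := by
    rw [h2, map_sub, map_sub, ret_cc hα hb]
  refine ⟨K191.Integral.ret A α (inc A U ζ), ret_mem_iso hα hU ζ, ?_, ?_⟩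
  · rw [h3]
    exact ret_mem α (isSubcomod_pow hJ j) (map_smul_top_mem (inc B U) (J ^ j) hζ)
  · rw [h3]
    exact ret_mem_iso hα hU _

end K881.Luna
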