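import Groth.Agent.LunaSt.K881.Luna

/-!
# Luna's fundamental lemma, affine case: the two local properties
-/

set_option autoImplicit false
set_option linter.unusedSectionVars false

universe u v w

open TensorProduct HopfRep

namespace K881.Luna

open K881.Rey K881.FinType K881.Typ

variable {k : Type u} [Field k] {H : Type v} [CommRing H] [HopfAlgebra k H]

section one

variable {A : Type w} [CommRing A] [Algebra k A] [Comod k H A] [GLin.IsCoactAlg k H A]

theorem mem_iso_one {a : A} : a ∈ iso A (1 : Submodule k H) ↔ a ∈ GLin.invariants k H A := by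
  constructor
  · intro ha
    obtain ⟨z, hz⟩ := mem_iso.1 ha
    have h1 : ∀ z : A ⊗[k] (1 : Submodule k H), ∃ x : A, inc A (1 : Submodule k H) z = x ⊗ₜ[k] 1 := by
      intro z
      induction z with
      | zero => exact ⟨0, by simp⟩
      | add x y hx hy =>
        obtain ⟨x', hx⟩ := hx
        obtain ⟨y', hy⟩ := hy
        exact ⟨x' + y', by rw [map_add, hx, hy, add_tmul]⟩
      | tmul b c =>
        obtain ⟨r, hr⟩ := Submodule.mem_one.1 c.2
        refine ⟨r • b, ?_⟩
        rw [inc_apply, LinearMap.lTensor_tmul, Submodule.subtype_apply, ← hr,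
          Algebra.algebraMap_eq_smul_one, TensorProduct.smul_tmul]
    obtain ⟨x, hx⟩ := h1 z
    rw [hz] at hx
    have hay : x = a := by
      have h4 := LinearMap.congr_fun (Comod.counit_comp (k := k) (A := H) (V := A)) a
      rw [LinearMap.comp_apply, hx] at h4
      have h5 := congrArg (TensorProduct.rid k A) h4
      simpa using h5
    rw [hay] at hx
    exact hx
  · intro ha
    have ha' : Comod.coact (k := k) (A := H) a = a ⊗ₜ[k] (1 : H) := ha
    rw [mem_iso, ha']
    exact ⟨a ⊗ₜ ⟨1, Submodule.one_le.1 le_rfl⟩, by rw [inc_apply, LinearMap.lTensor_tmul]; rfl⟩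

theorem mem_of_mem_smul_one (I : Ideal (GLin.invariants k H A)) {x : A}
    (hx : x ∈ (I • iso A (1 : Submodule k H) : Submodule (GLin.invariants k H A) A)) :
    ∃ y ∈ I, (y : A) = x := by
  refine Submodule.smul_induction_on (p := fun x => ∃ y ∈ I, (y : A) = x) hx ?_ ?_
  · intro r hr y hy
    exact ⟨r * ⟨y, mem_iso_one.1 hy⟩, I.mul_mem_right _ hr, rfl⟩
  · rintro _ _ ⟨y, hy, rfl⟩ ⟨z, hz, rfl⟩
    exact ⟨y + z, I.add_mem hy hz, rfl⟩

theorem finite_one : Module.Finite k (1 : Submodule k H) := by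
  rw [Module.Finite.iff_fg]
  exact ⟨{1}, by rw [Finset.coe_singleton, Submodule.one_eq_span]⟩

theorem iso_mono {U U' : Submodule k H} (h : U ≤ U') : iso A U ≤ iso A U' := by
  intro a ha
  obtain ⟨z, hz⟩ := mem_iso.1 ha
  rw [mem_iso, ← hz]
  refine ⟨(Submodule.inclusion h).lTensor A z, ?_⟩
  rw [inc_apply, inc_apply, ← LinearMap.comp_apply, ← LinearMap.lTensor_comp]
  rfl

theorem exists_mem_iso (a : A) : ∃ U : Submodule k H, LC U ∧ Module.Finite k U ∧ a ∈ iso A U := by
  classical
  have h1 : ∀ z : A ⊗[k] H, ∃ U : Submodule k H, LC U ∧ Module.Finite k U ∧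
      z ∈ LinearMap.range (inc A U) := by
    intro z
    induction z with
    | zero => exact ⟨1, LC.one, finite_one, Submodule.zero_mem _⟩
    | add x y hx hy =>
      obtain ⟨U, hU, hUf, hx⟩ := hx
      obtain ⟨U', hU', hUf', hy⟩ := hy
      have hm : ∀ {U U' : Submodule k H} (h : U ≤ U'), LinearMap.range (inc A U) ≤
          LinearMap.range (inc A U') := by
        rintro U U' h _ ⟨z, rfl⟩
        refine ⟨(Submodule.inclusion h).lTensor A z, ?_⟩
        rw [inc_apply, inc_apply, ← LinearMap.comp_apply, ← LinearMap.lTensor_comp]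
        rfl
      refine ⟨U ⊔ U', hU.sup hU', Submodule.finite_sup U U', Submodule.add_mem _ (hm le_sup_left hx)
        (hm le_sup_right hy)⟩
    | tmul b h =>
      obtain ⟨U, hU, hUf, hh⟩ := exists_LC (k := k) ({h} : Finset H)
      refine ⟨U, hU, Module.Finite.iff_fg.2 hUf, b ⊗ₜ ⟨h, hh h (by simp)⟩, ?_⟩
      rw [inc_apply, LinearMap.lTensor_tmul]
      rfl
  exact h1 (Comod.coact (k := k) (A := H) a)

end one

variable {A B : Type w} [CommRing A] [CommRing B] [Algebra k A] [Algebra k B]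
  [Comod k H A] [GLin.IsCoactAlg k H A] [Comod k H B] [GLin.IsCoactAlg k H B]
  [Algebra A B] [IsScalarTower k A B]
  [Algebra (GLin.invariants k H A) (GLin.invariants k H B)]
  [IsScalarTower (GLin.invariants k H A) (GLin.invariants k H B) B]
  (hφ : Hoch.IsComodHom H (IsScalarTower.toAlgHom k A B).toLinearMap)
  {α : H →ₗ[k] k} (hα : NInt α)
  {J : Ideal B} (hJ : IsSubcomod (k := k) (A := H) (J.restrictScalars k))
  (hI : IsSubcomod (k := k) (A := H) ((J.comap (algebraMap A B)).restrictScalars k))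
  (hs : ∀ (j : ℕ) (b : B), ∃ a : A, b - algebraMap A B a ∈ J ^ j)
  (hc : ∀ (j : ℕ) (a : A), algebraMap A B a ∈ J ^ j → a ∈ (J.comap (algebraMap A B)) ^ j)
  (n : Ideal (GLin.invariants k H B)) [n.IsMaximal]
  (hn : ∀ r : GLin.invariants k H B, r ∈ n ↔ (r : B) ∈ J)

include hφ hα hJ hs hn in
theorem cond_a [IsNoetherianRing B] (l : ℕ) (s : GLin.invariants k H B) :
    ∃ r : GLin.invariants k H A,
      s - algebraMap (GLin.invariants k H A) (GLin.invariants k H B) r ∈ n ^ l := by
  have := finite_one (k := k) (H := H)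
  obtain ⟨j, hj⟩ := exists_pow hα LC.one hJ n (fun r hr => (hn r).2 hr) l
  obtain ⟨a, ha, ha1, ha2⟩ := exists_iso_sub (IsScalarTower.toAlgHom k A B) hφ hα LC.one hJ j (hs j)
    (mem_iso_one.2 s.2)
  obtain ⟨y, hy, hy'⟩ := mem_of_mem_smul_one _ (hj _ ha2 ha1)
  refine ⟨⟨a, mem_iso_one.1 ha⟩, ?_⟩
  have e : s - algebraMap (GLin.invariants k H A) (GLin.invariants k H B)
      ⟨a, mem_iso_one.1 ha⟩ = y := by
    apply Subtype.ext
    rw [hy']
    change (s : B) - algebraMap (GLin.invariants k H B) B (algebraMap (GLin.invariants k H A)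
      (GLin.invariants k H B) ⟨a, mem_iso_one.1 ha⟩) = _
    rw [← IsScalarTower.algebraMap_apply]
    rfl
  rw [e]
  exact hy

include hn in
theorem pow_le (j : ℕ) (r : GLin.invariants k H B) (hr : r ∈ n ^ j) : (r : B) ∈ J ^ j := by
  have h1 : n ≤ J.comap (algebraMap (GLin.invariants k H B) B) := fun r hr => (hn r).1 hr
  exact (Ideal.pow_right_mono h1 j).trans (Ideal.le_comap_pow _ j) hr

include hα hI hc hn in
theorem cond_b [IsNoetherianRing A]
    [(n.comap (algebraMap (GLin.invariants k H A) (GLin.invariants k H B))).IsMaximal] (l : ℕ) :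
    ∃ j : ℕ, ∀ r : GLin.invariants k H A,
      algebraMap (GLin.invariants k H A) (GLin.invariants k H B) r ∈ n ^ j →
      r ∈ (n.comap (algebraMap (GLin.invariants k H A) (GLin.invariants k H B))) ^ l := by
  have := finite_one (k := k) (H := H)
  obtain ⟨j, hj⟩ := exists_pow hα LC.one hI
    (n.comap (algebraMap (GLin.invariants k H A) (GLin.invariants k H B)))
    (fun r hr => by
      rw [Ideal.mem_comap, hn]
      change algebraMap (GLin.invariants k H B) B _ ∈ J
      rw [← IsScalarTower.algebraMap_apply]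
      exact hr) l
  refine ⟨j, fun r hr => ?_⟩
  have h1 := pow_le n hn j _ hr
  change algebraMap (GLin.invariants k H B) B _ ∈ J ^ j at h1
  rw [← IsScalarTower.algebraMap_apply] at h1
  have h2 := hc j (r : A) h1
  obtain ⟨y, hy, hy'⟩ := mem_of_mem_smul_one _ (hj _ (mem_iso_one.2 r.2) h2)
  have e : r = y := Subtype.ext hy'.symm
  rw [e]
  exact hy

include hφ hα hJ hs hn in
theorem cond_surj [IsNoetherianRing B] (b : B) : ∃ g ∉ n,
    ∃ z : (GLin.invariants k H B) ⊗[GLin.invariants k H A] A,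
      PushLoc.mu (GLin.invariants k H A) (GLin.invariants k H B) A B z = g • b := by
  obtain ⟨U, hU, hUf, hb⟩ := exists_mem_iso (k := k) (H := H) b
  obtain ⟨j, hj⟩ := exists_pow hα hU hJ n (fun r hr => (hn r).2 hr) 1
  let S := GLin.invariants k H B
  let D : Submodule S B := LinearMap.range
    (PushLoc.mu (GLin.invariants k H A) (GLin.invariants k H B) A B).toLinearMap
  have hfin := finite_iso (A := B) (U := U) hα
  have h1 : iso B U ≤ D ⊔ n • iso B U := by
    intro b' hb'
    obtain ⟨a, ha, ha1, ha2⟩ := exists_iso_sub (IsScalarTower.toAlgHom k A B) hφ hα hU hJ j (hs j) hb'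
    have h2 := hj _ ha2 ha1
    rw [pow_one] at h2
    have e : b' = algebraMap A B a + (b' - algebraMap A B a) := by ring
    rw [e]
    refine Submodule.add_mem_sup ⟨1 ⊗ₜ a, ?_⟩ h2
    change PushLoc.mu (GLin.invariants k H A) (GLin.invariants k H B) A B (1 ⊗ₜ a) = _
    rw [PushLoc.mu_tmul, map_one, one_mul]
  obtain ⟨r, hr1, hr2⟩ := Submodule.exists_sub_one_mem_and_smul_le_of_fg_of_le_sup (I := n)
    (N := D) (N' := iso B U) (P := iso B U) (Module.Finite.iff_fg.1 hfin) le_rfl h1
  refine ⟨r, fun h => ?_, ?_⟩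
  · apply (Ideal.IsMaximal.ne_top ‹_› : n ≠ ⊤)
    rw [Ideal.eq_top_iff_one]
    have := n.sub_mem h hr1
    rwa [sub_sub_cancel] at this
  · obtain ⟨z, hz⟩ := hr2 (Submodule.smul_mem_pointwise_smul b r _ hb)
    exact ⟨z, hz⟩

include hφ hα hJ hI hs hc hn in
theorem cond_inj [IsNoetherianRing A] [IsNoetherianRing B]
    [(n.comap (algebraMap (GLin.invariants k H A) (GLin.invariants k H B))).IsMaximal]
    (z : (GLin.invariants k H B) ⊗[GLin.invariants k H A] A)
    (hz : PushLoc.mu (GLin.invariants k H A) (GLin.invariants k H B) A B z = 0) :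
    ∃ g ∉ n, g • z = 0 := by
  classical
  let R := GLin.invariants k H A
  let S := GLin.invariants k H B
  have hnS : IsNoetherianRing S := isNoetherianRing_invariants hα
  -- a part containing `z`
  have h0 : ∀ z : S ⊗[R] A, ∃ U : Submodule k H, LC U ∧ Module.Finite k U ∧
      z ∈ LinearMap.range ((iso A U).subtype.baseChange S) := by
    intro z
    induction z with
    | zero => exact ⟨1, LC.one, finite_one, Submodule.zero_mem _⟩
    | add x y hx hy =>
      obtain ⟨U, hU, hUf, hx⟩ := hx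
      obtain ⟨U', hU', hUf', hy⟩ := hy
      have hm : ∀ {U U' : Submodule k H} (h : U ≤ U'),
          LinearMap.range ((iso A U).subtype.baseChange S) ≤
          LinearMap.range ((iso A U').subtype.baseChange S) := by
        rintro U U' h _ ⟨z, rfl⟩
        refine ⟨(Submodule.inclusion (iso_mono h)).baseChange S z, ?_⟩
        rw [← LinearMap.comp_apply, ← LinearMap.baseChange_comp]
        rfl
      refine ⟨U ⊔ U', hU.sup hU', Submodule.finite_sup U U', Submodule.add_mem _ (hm le_sup_left hx)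
        (hm le_sup_right hy)⟩
    | tmul s a =>
      obtain ⟨U, hU, hUf, ha⟩ := exists_mem_iso (k := k) (H := H) a
      exact ⟨U, hU, hUf, s ⊗ₜ ⟨a, ha⟩, by rw [LinearMap.baseChange_tmul]; rfl⟩
  obtain ⟨U, hU, hUf, z', hz'⟩ := h0 z
  have hfin : Module.Finite R (iso A U) := finite_iso (A := A) (U := U) hα
  let M := iso A U
  -- the algebra map on the part
  let μ : S ⊗[R] M →ₗ[S] B := (PushLoc.mu R S A B).toLinearMap ∘ₗ (iso A U).subtype.baseChange S
  have hμ1 : ∀ a : M, μ (1 ⊗ₜ a) = algebraMap A B a := by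
    intro a
    change PushLoc.mu R S A B ((iso A U).subtype.baseChange S (1 ⊗ₜ a)) = _
    rw [LinearMap.baseChange_tmul, PushLoc.mu_tmul, map_one, one_mul]
    rfl
  have hμz : μ z' = 0 := by
    change PushLoc.mu R S A B ((iso A U).subtype.baseChange S z') = _
    rw [hz', hz]
  have key : ∀ l : ℕ, z' ∈ (n ^ l • ⊤ : Submodule S (S ⊗[R] M)) := by
    intro l
    obtain ⟨j, hj⟩ := exists_pow hα hU hI
      (n.comap (algebraMap (GLin.invariants k H A) (GLin.invariants k H B)))
      (fun r hr => by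
        rw [Ideal.mem_comap, hn]
        change algebraMap (GLin.invariants k H B) B _ ∈ J
        rw [← IsScalarTower.algebraMap_apply]
        exact hr) l
    have h1 : ∀ y : S ⊗[R] M, ∃ a : M, y - 1 ⊗ₜ a ∈
        (n ^ (max l j) • ⊤ : Submodule S (S ⊗[R] M)) := by
      intro y
      induction y with
      | zero => exact ⟨0, by simp⟩
      | add x y hx hy =>
        obtain ⟨a, ha⟩ := hx
        obtain ⟨b, hb⟩ := hy
        refine ⟨a + b, ?_⟩
        rw [TensorProduct.tmul_add, add_sub_add_comm]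
        exact Submodule.add_mem _ ha hb
      | tmul s a =>
        obtain ⟨r, hr⟩ := cond_a hφ hα hJ hs n hn (max l j) s
        refine ⟨r • a, ?_⟩
        have e : s ⊗ₜ[R] a - 1 ⊗ₜ[R] (r • a) = (s - algebraMap R S r) • ((1 : S) ⊗ₜ[R] a) := by
          rw [← TensorProduct.smul_tmul, TensorProduct.smul_tmul', ← TensorProduct.sub_tmul,
            Algebra.smul_def, mul_one, smul_eq_mul, mul_one]
        rw [e]
        exact Submodule.smul_mem_smul hr trivial
    obtain ⟨a, ha⟩ := h1 z'
    have h2 : algebraMap A B (a : A) ∈ J ^ (max l j) := by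
      have h3 := map_smul_top_mem μ _ ha
      rw [map_sub, hμz, zero_sub, hμ1] at h3
      have h4 : ∀ x ∈ (n ^ (max l j) • ⊤ : Submodule S B), x ∈ J ^ (max l j) := by
        intro x hx
        refine Submodule.smul_induction_on (p := fun x => x ∈ J ^ (max l j)) hx ?_ ?_
        · intro r hr y _
          exact Ideal.mul_mem_right y _ (pow_le n hn _ r hr)
        · intro x y hx hy
          exact Ideal.add_mem _ hx hy
      exact (Ideal.neg_mem_iff _).1 (h4 _ h3)
    have h5 : (a : A) ∈ (J.comap (algebraMap A B)) ^ j :=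
      Ideal.pow_le_pow_right (le_max_right l j) (hc _ _ h2)
    have h6 := hj _ a.2 h5
    have h7 : ∀ x ∈ ((n.comap (algebraMap R S)) ^ l • iso A U : Submodule R A),
        ∃ hx : x ∈ iso A U, (1 : S) ⊗ₜ[R] (⟨x, hx⟩ : M) ∈ (n ^ l • ⊤ : Submodule S (S ⊗[R] M)) := by
      intro x hx
      refine Submodule.smul_induction_on (p := fun x => ∃ hx : x ∈ iso A U,
        (1 : S) ⊗ₜ[R] (⟨x, hx⟩ : M) ∈ (n ^ l • ⊤ : Submodule S (S ⊗[R] M))) hx ?_ ?_
      · intro r hr y hy
        refine ⟨(iso A U).smul_mem r hy, ?_⟩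
        have e : (1 : S) ⊗ₜ[R] (⟨r • y, (iso A U).smul_mem r hy⟩ : M) =
            (algebraMap R S r) • ((1 : S) ⊗ₜ[R] (⟨y, hy⟩ : M)) := by
          have e1 : (⟨r • y, (iso A U).smul_mem r hy⟩ : M) = r • (⟨y, hy⟩ : M) := rfl
          rw [e1, ← TensorProduct.smul_tmul, TensorProduct.smul_tmul', Algebra.smul_def, smul_eq_mul]
        rw [e]
        exact Submodule.smul_mem_smul (Ideal.le_comap_pow (algebraMap R S) l hr) trivial
      · rintro x y ⟨hx, hx'⟩ ⟨hy, hy'⟩
        refine ⟨(iso A U).add_mem hx hy, ?_⟩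
        have e : (1 : S) ⊗ₜ[R] (⟨x + y, (iso A U).add_mem hx hy⟩ : M) =
            (1 : S) ⊗ₜ[R] (⟨x, hx⟩ : M) + (1 : S) ⊗ₜ[R] (⟨y, hy⟩ : M) := by
          rw [← TensorProduct.tmul_add]
          rfl
        rw [e]
        exact Submodule.add_mem _ hx' hy'
    obtain ⟨_, h8⟩ := h7 _ h6
    have e : z' = (z' - 1 ⊗ₜ a) + 1 ⊗ₜ a := by rw [sub_add_cancel]
    rw [e]
    exact Submodule.add_mem _ (Submodule.smul_mono_left (Ideal.pow_le_pow_right (le_max_left l j)) ha) h8
  obtain ⟨ν, hν⟩ := (Ideal.mem_iInf_smul_pow_eq_bot_iff n z').1 ((Submodule.mem_iInf _).2 key)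
  refine ⟨1 - ν, fun h => ?_, ?_⟩
  · apply (Ideal.IsMaximal.ne_top ‹_› : n ≠ ⊤)
    rw [Ideal.eq_top_iff_one]
    have := n.add_mem h ν.2
    rwa [sub_add_cancel] at this
  · have h9 : (1 - (ν : S)) • z' = 0 :=
      (sub_smul (1 : GLin.invariants k H B) (ν : GLin.invariants k H B) z').trans (by
        rw [one_smul, hν, sub_self])
    rw [← hz', ← map_smul, h9, map_zero]

end K881.Luna
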