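import Groth.Agent.GLin.K764.HopfMod
import Groth.Agent.GIT.K690.Orbits
import Mathlib.RingTheory.TensorProduct.Free
import Mathlib.LinearAlgebra.TensorProduct.Tower

/-!
# The pull-back of an equivariant module along an orbit map is free
-/

set_option autoImplicit false
set_option linter.unusedSectionVars false

universe u v w w'

open TensorProduct HopfRep GLin

namespace K881.OrbFree

open Groth.Agent.Books.ComodBasic Groth.Agent.Books.ComodHom Groth.Agent.Books.ComodInv
open K764.HopfMod TameAct

variable {k : Type u} [Field k] {H : Type v} [CommRing H] [HopfAlgebra k H]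
  {R : Type w} [CommRing R] [Algebra k R] [Comod k H R] [IsCoactAlg k H R]
  (x : R →ₐ[k] k)
  [Algebra R H] [IsScalarTower k R H] (ho : ∀ r, algebraMap R H r = orbitHom k H x r)
  (M : Type w') [AddCommGroup M] [Module k M] [Module R M] [IsScalarTower k R M]
  [Comod k H M] [IsHopfMod k H R M]

/-- the fibre at the point -/
abbrev Fib : Type w' := M ⧸ (RingHom.ker x • ⊤ : Submodule R M)

/-- the projection to the fibre -/
noncomputable def pr : M →ₗ[k] Fib x M := (RingHom.ker x • ⊤ : Submodule R M).mkQ.restrictScalars k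

omit [Comod k H R] [IsCoactAlg k H R] [Algebra R H] [IsScalarTower k R H] [Comod k H M]
  [IsHopfMod k H R M] in
theorem pr_smul (r : R) (m : M) : pr x M (r • m) = x r • pr x M m := by
  have h1 : (r - algebraMap k R (x r)) • m ∈ (RingHom.ker x • ⊤ : Submodule R M) := by
    refine Submodule.smul_mem_smul ?_ Submodule.mem_top
    rw [RingHom.mem_ker, map_sub, AlgHom.commutes]
    simp
  have h2 : pr x M ((r - algebraMap k R (x r)) • m) = 0 :=
    (Submodule.Quotient.mk_eq_zero _).2 h1
  rw [sub_smul, map_sub, sub_eq_zero, algebraMap_smul, (pr x M).map_smul] at h2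
  exact h2

/-- `m ⊗ h ↦ h ⊗ [m]` -/
noncomputable def prT : M ⊗[k] H →ₗ[k] H ⊗[k] Fib x M :=
  (TensorProduct.comm k (Fib x M) H).toLinearMap ∘ₗ (pr x M).rTensor H

omit [Comod k H R] [IsCoactAlg k H R] [Algebra R H] [IsScalarTower k R H] [Comod k H M]
  [IsHopfMod k H R M] in
@[simp] theorem prT_tmul (m : M) (h : H) : prT x M (m ⊗ₜ h) = h ⊗ₜ pr x M m := by simp [prT]

/-- `m ⊗ h ↦ h ⊗ m` -/
noncomputable def q : M ⊗[k] H →ₗ[k] H ⊗[R] M :=
  TensorProduct.lift (LinearMap.flip
    { toFun := fun h => ((TensorProduct.mk R H M h).restrictScalars k)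
      map_add' := fun a b => by ext; simp
      map_smul' := fun c a => by
        ext m
        simp [TensorProduct.smul_tmul'] })

omit [Comod k H R] [IsCoactAlg k H R] [Comod k H M] [IsHopfMod k H R M] in
@[simp] theorem q_tmul (m : M) (h : H) : q (R := R) M (m ⊗ₜ[k] h) = h ⊗ₜ[R] m := by
  simp [q]

/-- `r ⊗ h ↦ o(r) h` -/
noncomputable def mu : R ⊗[k] H →ₗ[k] H :=
  TensorProduct.lift (LinearMap.mul k H ∘ₗ (Algebra.linearMap R H).restrictScalars k)

omit [Comod k H R] [IsCoactAlg k H R] in
@[simp] theorem mu_tmul (r : R) (h : H) : mu (k := k) (r ⊗ₜ[k] h) = algebraMap R H r * h := by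
  simp [mu]

include ho in
theorem mu_eq (z : R ⊗[k] H) : mu z = TensorProduct.lid k H (x.toLinearMap.rTensor H (Phi R z)) := by
  induction z with
  | zero => simp
  | add a b ha hb => simp only [map_add, ha, hb]
  | tmul r h =>
    rw [mu_tmul, ho, Phi_tmul, K690.Orbits.orbitHom_apply]
    generalize Comod.coact (k := k) (A := H) r = t
    induction t with
    | zero => simp
    | add a b ha hb => simp only [map_add, add_mul, ha, hb]
    | tmul s g => simp

include ho in
theorem mu_Psi (r : R) : mu (Psi R (r ⊗ₜ[k] (1 : H))) = algebraMap k H (x r) := by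
  rw [mu_eq x ho, Phi_Psi]
  simp [Algebra.algebraMap_eq_smul_one]

omit [Comod k H R] [IsCoactAlg k H R] [Comod k H M] [IsHopfMod k H R M] in
theorem q_hmSMul (z : R ⊗[k] H) (y : M ⊗[k] H) :
    q (R := R) M (hmSMul k H R M z y) = mu z • q (R := R) M y := by
  induction z with
  | zero => simp
  | add a b ha hb => simp only [map_add, LinearMap.add_apply, add_smul, ha, hb]
  | tmul r h =>
    induction y with
    | zero => simp
    | add a b ha hb => simp only [map_add, smul_add, ha, hb]
    | tmul m g =>
      rw [hmSMul_tmul, q_tmul, q_tmul, mu_tmul, TensorProduct.smul_tmul', ← TensorProduct.smul_tmul,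
        Algebra.smul_def, smul_eq_mul, mul_assoc]

theorem Psi_smul (r : R) (m : M) : Psi M ((r • m) ⊗ₜ[k] (1 : H)) =
    hmSMul k H R M (Psi R (r ⊗ₜ[k] (1 : H))) (Psi M (m ⊗ₜ[k] (1 : H))) := by
  rw [Psi_tmul, Psi_tmul, Psi_tmul, rmul_one, rmul_one, rmul_one,
    IsHopfMod.coact_smul (B := R)]
  generalize Comod.coact (k := k) (A := H) r = z
  generalize Comod.coact (k := k) (A := H) m = y
  induction z with
  | zero => simp
  | add a b ha hb => simp only [map_add, LinearMap.add_apply, ha, hb]
  | tmul r h =>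
    induction y with
    | zero => simp
    | add a b ha hb => simp only [map_add, ha, hb]
    | tmul m g =>
      rw [hmSMul_tmul, LinearMap.lTensor_tmul, LinearMap.lTensor_tmul, LinearMap.lTensor_tmul,
        hmSMul_tmul]
      congr 1
      exact HopfAlgebra.antipode_mul_distrib h g

/-- `m ↦ Σ S(m₁) ⊗ m₀` -/
noncomputable def g0 : M →ₗ[k] H ⊗[R] M :=
  q (R := R) M ∘ₗ Psi M ∘ₗ (TensorProduct.mk k M H).flip 1

theorem g0_apply (m : M) : g0 (k := k) (H := H) (R := R) M m =
    q (R := R) M (Psi M (m ⊗ₜ[k] (1 : H))) := rfl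

include ho in
theorem g0_smul (r : R) (m : M) : g0 (k := k) (H := H) (R := R) M (r • m) =
    x r • g0 (k := k) (H := H) (R := R) M m := by
  rw [g0_apply, Psi_smul, q_hmSMul, mu_Psi x ho, g0_apply, algebraMap_smul]

/-- the section `[m] ↦ Σ S(m₁) ⊗ m₀` -/
noncomputable def G0 : Fib x M →ₗ[k] H ⊗[R] M :=
  ((RingHom.ker x • ⊤ : Submodule R M).restrictScalars k).liftQ (g0 (k := k) (H := H) (R := R) M) (by
    intro m hm
    rw [LinearMap.mem_ker]
    rw [Submodule.restrictScalars_mem] at hm
    refine Submodule.smul_induction_on (p := fun m => g0 (k := k) (H := H) (R := R) M m = 0) hm ?_ ?_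
    · intro r hr m _
      rw [g0_smul x ho, (RingHom.mem_ker).1 hr, zero_smul]
    · intro a b ha hb
      rw [map_add, ha, hb, add_zero]) ∘ₗ
    (Submodule.Quotient.restrictScalarsEquiv k (RingHom.ker x • ⊤ : Submodule R M)).symm.toLinearMap

theorem G0_pr (m : M) : G0 x ho M (pr x M m) = q (R := R) M (Psi M (m ⊗ₜ[k] (1 : H))) := rfl

/-- `m ↦ Σ m₁ ⊗ [m₀]` -/
noncomputable def F0 : M →ₗ[R] H ⊗[k] Fib x M where
  toFun m := prT x M (Comod.coact (k := k) (A := H) m)
  map_add' a b := by simp only [map_add]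
  map_smul' r m := by
    have h1 : ∀ (z : R ⊗[k] H) (y : M ⊗[k] H), prT x M (hmSMul k H R M z y) =
        (TensorProduct.lid k H (x.toLinearMap.rTensor H z)) • prT x M y := by
      intro z y
      induction z with
      | zero => simp
      | add a b ha hb => simp only [map_add, LinearMap.add_apply, add_smul, ha, hb]
      | tmul r h =>
        induction y with
        | zero => simp
        | add a b ha hb => simp only [map_add, smul_add, ha, hb]
        | tmul m g =>
          rw [hmSMul_tmul, prT_tmul, prT_tmul, pr_smul]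
          simp [TensorProduct.smul_tmul']
    rw [IsHopfMod.coact_smul (B := R), h1, ← K690.Orbits.orbitHom_apply, ← ho, RingHom.id_apply,
      algebraMap_smul]

theorem F0_apply (m : M) : F0 x ho M m = prT x M (Comod.coact (k := k) (A := H) m) := rfl

/-- the forward map -/
noncomputable def F : H ⊗[R] M →ₗ[H] H ⊗[k] Fib x M := (F0 x ho M).liftBaseChange H

/-- the backward map -/
noncomputable def G : H ⊗[k] Fib x M →ₗ[H] H ⊗[R] M := (G0 x ho M).liftBaseChange H

theorem q_Psi_tmul (m : M) (h : H) : q (R := R) M (Psi M (m ⊗ₜ[k] h)) =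
    h • q (R := R) M (Psi M (m ⊗ₜ[k] (1 : H))) := by
  rw [Psi_tmul, Psi_tmul, rmul_one]
  generalize LinearMap.lTensor M (HopfAlgebraStruct.antipode k)
    (Comod.coact (k := k) (A := H) m) = z
  induction z with
  | zero => simp
  | add a b ha hb => simp only [map_add, smul_add, ha, hb]
  | tmul m g => simp [TensorProduct.smul_tmul', mul_comm]

theorem G_prT (z : M ⊗[k] H) : G x ho M (prT x M z) = q (R := R) M (Psi M z) := by
  induction z with
  | zero => simp
  | add a b ha hb => simp only [map_add, ha, hb]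
  | tmul m h =>
    rw [prT_tmul, G, LinearMap.liftBaseChange_tmul, G0_pr, q_Psi_tmul M m h]

theorem F_q (z : M ⊗[k] H) : F x ho M (q (R := R) M z) = prT x M (Phi M z) := by
  induction z with
  | zero => simp
  | add a b ha hb => simp only [map_add, ha, hb]
  | tmul m h =>
    rw [q_tmul, F, LinearMap.liftBaseChange_tmul, F0_apply, Phi_tmul]
    generalize Comod.coact (k := k) (A := H) m = z
    induction z with
    | zero => simp
    | add a b ha hb => simp only [map_add, smul_add, ha, hb]
    | tmul m g => simp [TensorProduct.smul_tmul', mul_comm]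

/-- `H ⊗_R M ≃ H ⊗ M(x)` -/
noncomputable def equiv : (H ⊗[R] M) ≃ₗ[H] (H ⊗[k] Fib x M) :=
  LinearEquiv.ofLinearMap (F x ho M) (G x ho M)
    (by
      refine TensorProduct.AlgebraTensorModule.ext fun h f => ?_
      obtain ⟨m, rfl⟩ : ∃ m, pr x M m = f := Submodule.mkQ_surjective _ f
      have e : h ⊗ₜ[k] pr x M m = h • prT x M (m ⊗ₜ 1) := by
        rw [prT_tmul, TensorProduct.smul_tmul', smul_eq_mul, mul_one]
      rw [LinearMap.comp_apply, LinearMap.id_apply, e, map_smul, map_smul, G_prT, F_q, Phi_Psi])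
    (by
      refine TensorProduct.AlgebraTensorModule.ext fun h m => ?_
      have e : h ⊗ₜ[R] m = h • q (R := R) M (m ⊗ₜ[k] (1 : H)) := by
        rw [q_tmul, TensorProduct.smul_tmul', smul_eq_mul, mul_one]
      rw [LinearMap.comp_apply, LinearMap.id_apply, e, map_smul, map_smul, F_q, G_prT, Psi_Phi])

omit [Comod k H R] [IsCoactAlg k H R] [Algebra R H] [IsScalarTower k R H] [Comod k H M]
  [IsHopfMod k H R M] in
theorem finite_fib [Module.Finite R M] : Module.Finite k (Fib x M) := by
  classical
  obtain ⟨s, hs⟩ := Module.Finite.fg_top (R := R) (M := M)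
  refine ⟨⟨s.image (pr x M), ?_⟩⟩
  rw [eq_top_iff]
  intro f _
  obtain ⟨m, rfl⟩ : ∃ m, pr x M m = f := Submodule.mkQ_surjective _ f
  have hm : m ∈ Submodule.span R (s : Set M) := by rw [hs]; trivial
  induction hm using Submodule.span_induction with
  | mem y hy => exact Submodule.subset_span (by simpa using ⟨y, hy, rfl⟩)
  | zero => rw [map_zero]; exact Submodule.zero_mem _
  | add a b _ _ ha hb => rw [map_add]; exact Submodule.add_mem _ (ha trivial) (hb trivial)
  | smul r a _ ha => rw [pr_smul]; exact Submodule.smul_mem _ _ (ha trivial)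

include ho in
/-- the pull-back to the group is free of finite rank -/
theorem exists_equiv [Module.Finite R M] : ∃ n : ℕ, Nonempty ((H ⊗[R] M) ≃ₗ[H] (Fin n → H)) := by
  have := finite_fib x M
  let b := Module.finBasis k (Fib x M)
  exact ⟨_, ⟨(equiv x ho M).trans ((Algebra.TensorProduct.basis H b).equivFun)⟩⟩

end K881.OrbFree
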