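import Groth.Agent.HopfRep.K191.Reductive
import Groth.Agent.HopfRep.K189.Reynolds
import Groth.Agent.LunaSt.K881.Hilbert
import Groth.Prelude.Def_GLin

/-!
# The Reynolds operator of a linearly reductive group on arbitrary comodules (any universe)

`rey α M : M → M`, `m ↦ Σ α(S m₁) m₀` for an integral `α : H → k`.
-/

set_option autoImplicit false

universe u v w w' w''

open TensorProduct HopfRep

namespace K881.Rey

variable {k : Type u} [Field k] {H : Type v} [CommRing H] [HopfAlgebra k H]

/-- a normalised invariant integral -/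
structure NInt (α : H →ₗ[k] k) : Prop where
  isInt : K191.Integral.IsInt α
  one : α 1 = 1

theorem exists_nInt (hG : IsLinearlyReductive k H) : ∃ α : H →ₗ[k] k, NInt α := by
  obtain ⟨α, h1, h2⟩ := K191.Reductive.isLinearlyReductive_iff_isInt.1 hG
  exact ⟨α, h1, h2⟩

section basic

variable (M : Type w) [AddCommGroup M] [Module k M] [Comod k H M]

/-- the Reynolds operator -/
noncomputable def rey (α : H →ₗ[k] k) : M →ₗ[k] M := TameAct.reynolds k H k M α

variable {M}

theorem rey_mem {α : H →ₗ[k] k} (hα : NInt α) (m : M) : rey M α m ∈ fixedPts k H M := by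
  let _ : Comod k H k := Comod.trivial k H k
  have : TameAct.IsHopfMod k H k M := by
    constructor
    intro b m
    have e : Comod.coact (k := k) (A := H) b = b ⊗ₜ[k] (1 : H) := rfl
    rw [e, map_smul]
    generalize Comod.coact (k := k) (A := H) m = t
    induction t with
    | zero => simp
    | tmul x a => simp [TensorProduct.smul_tmul']
    | add x y hx hy => simp only [map_add, smul_add, hx, hy]
  exact K189.Reynolds.reynolds_mem (B := k) ((K191.Integral.isInt_iff α).1 hα.isInt) m

theorem rey_eq_self {α : H →ₗ[k] k} (hα : NInt α) {m : M} (hm : m ∈ fixedPts k H M) :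
    rey M α m = m := K189.Reynolds.reynolds_eq_self (B := k) hα.one hm

theorem map_rey {N : Type w'} [AddCommGroup N] [Module k N] [Comod k H N] (α : H →ₗ[k] k)
    (f : M →ₗ[k] N) (hf : Hoch.IsComodHom H f) (m : M) : f (rey M α m) = rey N α (f m) :=
  K189.Reynolds.map_reynolds (B := k) α f hf m

theorem rey_mem_of_isSubcomod (α : H →ₗ[k] k) (N : Submodule k M)
    (hN : IsSubcomod (k := k) (A := H) N) {m : M} (hm : m ∈ N) : rey M α m ∈ N :=
  K189.Reynolds.reynolds_mem_of_isSubcomod (B := k) α N hN hm

end basic

section modules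

variable {A : Type w} [CommRing A] [Algebra k A] [Comod k H A]
  {M : Type w'} [AddCommGroup M] [Module k M] [Module A M] [IsScalarTower k A M] [Comod k H M]
  [TameAct.IsHopfMod k H A M]

/-- multiplication by an invariant is a comodule map -/
theorem isComodHom_smul [GLin.IsCoactAlg k H A] {a : A} (ha : a ∈ GLin.invariants k H A) :
    Hoch.IsComodHom H ((Algebra.lsmul k k M a : M →ₗ[k] M)) := by
  refine LinearMap.ext fun m => ?_
  have e : Comod.coact (k := k) (A := H) a = a ⊗ₜ[k] (1 : H) := ha
  rw [LinearMap.comp_apply, LinearMap.comp_apply, Algebra.lsmul_coe,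
    TameAct.IsHopfMod.coact_smul (k := k) (A := H) (B := A), e]
  generalize Comod.coact (k := k) (A := H) m = t
  induction t with
  | zero => simp
  | tmul x a => simp
  | add x y hx hy => simp only [map_add, hx, hy]

/-- `a ↦ a • m` is a comodule map, for `m` fixed -/
theorem isComodHom_toSpan {m : M} (hm : m ∈ fixedPts k H M) :
    Hoch.IsComodHom H ((LinearMap.toSpanSingleton A M m).restrictScalars k) := by
  refine LinearMap.ext fun a => ?_
  have e : Comod.coact (k := k) (A := H) m = m ⊗ₜ[k] (1 : H) := hm
  rw [LinearMap.comp_apply, LinearMap.comp_apply, LinearMap.coe_restrictScalars,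
    LinearMap.toSpanSingleton_apply, TameAct.IsHopfMod.coact_smul (k := k) (A := H) (B := A), e]
  generalize Comod.coact (k := k) (A := H) a = t
  induction t with
  | zero => simp
  | tmul x a => simp
  | add x y hx hy => simp only [map_add, LinearMap.add_apply, hx, hy]

theorem rey_smul [GLin.IsCoactAlg k H A] (α : H →ₗ[k] k) {a : A}
    (ha : a ∈ GLin.invariants k H A) (m : M) : rey M α (a • m) = a • rey M α m :=
  (map_rey α _ (isComodHom_smul (M := M) ha) m).symm

theorem rey_smul_fixed (α : H →ₗ[k] k) (a : A) {m : M} (hm : m ∈ fixedPts k H M) :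
    rey M α (a • m) = rey A α a • m :=
  (map_rey α _ (isComodHom_toSpan (A := A) hm) a).symm

end modules

section algebras

variable {A : Type w} [CommRing A] [Algebra k A] [Comod k H A] [GLin.IsCoactAlg k H A]

/-- an algebra with a multiplicative coaction is a Hopf module over itself -/
theorem isHopfMod_self : TameAct.IsHopfMod k H A A where
  coact_smul b m := by
    have h : ∀ x y : A ⊗[k] H, TameAct.hmSMul k H A A x y = x * y := by
      intro x y
      induction x with
      | zero => simp
      | tmul a b =>
        induction y with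
        | zero => simp
        | tmul c d => simp
        | add y y' hy hy' => simp only [map_add, mul_add, hy, hy']
      | add x x' hx hx' => simp only [map_add, LinearMap.add_apply, add_mul, hx, hx']
    rw [h, smul_eq_mul, GLin.IsCoactAlg.coact_mul (k := k) (A := H)]

theorem mem_invariants {a : A} : a ∈ GLin.invariants k H A ↔ a ∈ fixedPts k H A := Iff.rfl

theorem rey_mul (α : H →ₗ[k] k) {a : A} (ha : a ∈ GLin.invariants k H A) (b : A) :
    rey A α (a * b) = a * rey A α b := by
  have := isHopfMod_self (k := k) (H := H) (A := A)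
  exact rey_smul (M := A) α ha b

theorem rey_mul' (α : H →ₗ[k] k) {a : A} (ha : a ∈ GLin.invariants k H A) (b : A) :
    rey A α (b * a) = rey A α b * a := by
  rw [mul_comm, rey_mul α ha, mul_comm]

/-- a product of subcomodules is a subcomodule -/
theorem isSubcomod_mul {N₁ N₂ : Submodule k A} (h1 : IsSubcomod (k := k) (A := H) N₁)
    (h2 : IsSubcomod (k := k) (A := H) N₂) : IsSubcomod (k := k) (A := H) (N₁ * N₂) := by
  intro x hx
  refine Submodule.mul_induction_on hx ?_ ?_
  · intro m hm n hn
    obtain ⟨s, hs⟩ := h1 m hm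
    obtain ⟨t, ht⟩ := h2 n hn
    rw [GLin.IsCoactAlg.coact_mul (k := k) (A := H), ← hs, ← ht]
    clear hs ht
    induction s with
    | zero => simp
    | add x y hx hy => rw [map_add, add_mul]; exact Submodule.add_mem _ hx hy
    | tmul x a =>
      induction t with
      | zero => simp
      | add x y hx hy => rw [map_add, mul_add]; exact Submodule.add_mem _ hx hy
      | tmul y b =>
        refine ⟨⟨(x : A) * y, Submodule.mul_mem_mul x.2 y.2⟩ ⊗ₜ (a * b), ?_⟩
        simp
  · intro y z hy hz
    rw [map_add]
    exact Submodule.add_mem _ hy hz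

theorem isSubcomod_one : IsSubcomod (k := k) (A := H) (1 : Submodule k A) := by
  intro x hx
  obtain ⟨r, rfl⟩ := Submodule.mem_one.1 hx
  refine ⟨⟨algebraMap k A r, hx⟩ ⊗ₜ 1, ?_⟩
  rw [LinearMap.rTensor_tmul, Submodule.subtype_apply]
  change algebraMap k A r ⊗ₜ[k] (1 : H) = _
  rw [Algebra.algebraMap_eq_smul_one, map_smul,
    GLin.IsCoactAlg.coact_one (k := k) (A := H), Algebra.TensorProduct.one_def,
    TensorProduct.smul_tmul']

theorem isSubcomod_pow {N : Submodule k A} (h : IsSubcomod (k := k) (A := H) N) (d : ℕ) :
    IsSubcomod (k := k) (A := H) (N ^ d) := by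
  induction d with
  | zero => rw [pow_zero]; exact isSubcomod_one
  | succ d ih => rw [pow_succ]; exact isSubcomod_mul ih h

theorem isSubcomod_range {V : Type w'} [AddCommGroup V] [Module k V] [Comod k H V]
    {V' : Type w''} [AddCommGroup V'] [Module k V'] [Comod k H V']
    {f : V →ₗ[k] V'} (hf : Hoch.IsComodHom H f) :
    IsSubcomod (k := k) (A := H) (LinearMap.range f) := by
  rintro _ ⟨v, rfl⟩
  have e := LinearMap.congr_fun hf v
  rw [LinearMap.comp_apply, LinearMap.comp_apply] at e
  rw [e]
  generalize Comod.coact (k := k) (A := H) v = t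
  induction t with
  | zero => simp
  | add x y hx hy => rw [map_add]; exact Submodule.add_mem _ hx hy
  | tmul x a => exact ⟨⟨f x, x, rfl⟩ ⊗ₜ a, by simp⟩

end algebras

end K881.Rey
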