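import Groth.Agent.LunaSt.K881.FinType
import Mathlib.RingTheory.Artinian.Ring
import Mathlib.RingTheory.HopkinsLevitzki
import Mathlib.RingTheory.Filtration
import Mathlib.RingTheory.Artinian.Module

/-!
# The parts of a `G`-algebra with prescribed coefficient space

For a subspace `U ⊆ H` with `Δ(U) ⊆ H ⊗ U`, the part `A_U = {a : ρ(a) ∈ A ⊗ U}` is a finite module over the
invariants, and the adic filtration of a stable ideal induces on it the topology of the invariants.
-/

set_option autoImplicit false
set_option linter.unusedSectionVars false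

universe u v w w'

open TensorProduct HopfRep

namespace K881.Typ

open K881.Rey K881.FinType

variable {k : Type u} [Field k] {H : Type v} [CommRing H] [HopfAlgebra k H]
variable {A : Type w} [CommRing A] [Algebra k A] [Comod k H A] [GLin.IsCoactAlg k H A]

theorem smul_eq (a : A) (z : A ⊗[k] H) : a • z = (a ⊗ₜ[k] (1 : H)) * z := by
  rw [Algebra.smul_def]
  rfl

section ret

variable (α : H →ₗ[k] k)

theorem ret_tmul_one (b : A) : K191.Integral.ret A α (b ⊗ₜ[k] (1 : H)) = rey A α b := by
  rw [K191.Integral.ret, rey, TameAct.reynolds]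
  simp only [LinearMap.comp_apply, LinearMap.rTensor_tmul, LinearEquiv.coe_coe]
  generalize Comod.coact (k := k) (A := H) b = z
  induction z with
  | zero => simp
  | add x y hx hy => simp only [map_add, add_tmul, hx, hy]
  | tmul x c => simp

theorem ret_smul_coact (b x : A) : K191.Integral.ret A α (b • Comod.coact (k := k) (A := H) x) =
    rey A α b * x := by
  rw [smul_eq, ret_mul_coact, ret_tmul_one]

theorem ret_inv_smul {r : A} (hr : r ∈ GLin.invariants k H A) (z : A ⊗[k] H) :
    K191.Integral.ret A α (r • z) = r * K191.Integral.ret A α z := by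
  have hr' : Comod.coact (k := k) (A := H) r = r ⊗ₜ[k] (1 : H) := hr
  rw [smul_eq, ← hr', mul_comm, ret_mul_coact, mul_comm]

end ret

section iso

variable (U : Submodule k H)

variable (A) in
/-- the inclusion of `A ⊗ U` -/
noncomputable def inc : A ⊗[k] U →ₗ[A] A ⊗[k] H :=
  TensorProduct.AlgebraTensorModule.lTensor A A U.subtype

theorem inc_apply (z : A ⊗[k] U) : inc A U z = U.subtype.lTensor A z := rfl

/-- a linear projection onto `U` -/
noncomputable def rt : H →ₗ[k] U :=
  (LinearMap.exists_leftInverse_of_injective U.subtype (Submodule.ker_subtype U)).choose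

theorem rt_coe (u : U) : rt U (u : H) = u :=
  LinearMap.congr_fun
    (LinearMap.exists_leftInverse_of_injective U.subtype (Submodule.ker_subtype U)).choose_spec u

variable (A) in
/-- the projection to `A ⊗ U` -/
noncomputable def rtA : A ⊗[k] H →ₗ[A] A ⊗[k] U :=
  TensorProduct.AlgebraTensorModule.lTensor A A (rt U)

theorem rtA_inc (z : A ⊗[k] U) : rtA A U (inc A U z) = z := by
  induction z with
  | zero => simp
  | add x y hx hy => simp only [map_add, hx, hy]
  | tmul a u => simp [rtA, inc, rt_coe]

theorem coact_smul {r : A} (hr : r ∈ GLin.invariants k H A) (a : A) :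
    Comod.coact (k := k) (A := H) (r * a) = r • Comod.coact (k := k) (A := H) a := by
  have hr' : Comod.coact (k := k) (A := H) r = r ⊗ₜ[k] (1 : H) := hr
  rw [GLin.IsCoactAlg.coact_mul (k := k) (A := H), hr', smul_eq]

variable (A) in
/-- the part of `A` with coefficients in `U` -/
noncomputable def iso : Submodule (GLin.invariants k H A) A where
  carrier := {a | Comod.coact (k := k) (A := H) a ∈ LinearMap.range (inc A U)}
  add_mem' := fun {a b} ha hb => by
    change Comod.coact (k := k) (A := H) (a + b) ∈ LinearMap.range (inc A U)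
    rw [map_add]
    exact Submodule.add_mem _ ha hb
  zero_mem' := by
    change Comod.coact (k := k) (A := H) (0 : A) ∈ LinearMap.range (inc A U)
    rw [map_zero]
    exact Submodule.zero_mem _
  smul_mem' := by
    rintro ⟨r, hr⟩ a ha
    change Comod.coact (k := k) (A := H) (r * a) ∈ LinearMap.range (inc A U)
    rw [coact_smul hr]
    exact Submodule.smul_mem _ r ha

variable {U}

theorem mem_iso {a : A} : a ∈ iso A U ↔
    Comod.coact (k := k) (A := H) a ∈ LinearMap.range (inc A U) := Iff.rfl

/-- the coaction followed by the projection -/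
noncomputable def cc (U : Submodule k H) (a : A) : A ⊗[k] U :=
  rtA A U (Comod.coact (k := k) (A := H) a)

theorem cc_add (a b : A) : cc U (a + b) = cc U a + cc U b := by rw [cc, map_add, map_add]; rfl

theorem cc_smul {r : A} (hr : r ∈ GLin.invariants k H A) (a : A) : cc U (r * a) = r • cc U a := by
  rw [cc, coact_smul hr, map_smul]; rfl

theorem inc_cc {a : A} (ha : a ∈ iso A U) : inc A U (cc U a) = Comod.coact (k := k) (A := H) a := by
  obtain ⟨z, hz⟩ := mem_iso.1 ha
  rw [cc, ← hz, rtA_inc]

theorem ret_smul_cc (α : H →ₗ[k] k) (b : A) {x : A} (hx : x ∈ iso A U) :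
    K191.Integral.ret A α (inc A U (b • cc U x)) = rey A α b * x := by
  rw [map_smul, inc_cc hx, ret_smul_coact]

theorem ret_cc {α : H →ₗ[k] k} (hα : NInt α) {x : A} (hx : x ∈ iso A U) :
    K191.Integral.ret A α (inc A U (cc U x)) = x := by
  rw [inc_cc hx, K191.Integral.ret_coact hα.one]

theorem ret_mem_iso {α : H →ₗ[k] k} (hα : NInt α) (hU : LC U) (z : A ⊗[k] U) :
    K191.Integral.ret A α (inc A U z) ∈ iso A U := by
  rw [mem_iso, K191.Integral.coact_ret hα.isInt]
  induction z with
  | zero => simp
  | add x y hx hy => simp only [map_add]; exact Submodule.add_mem _ hx hy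
  | tmul a u =>
    rw [inc_apply, LinearMap.lTensor_tmul, Submodule.subtype_apply, Hoch.Ind.coactAux_tmul]
    obtain ⟨t, ht⟩ := hU u u.2
    change (K191.Integral.ret A α).rTensor H ((TensorProduct.assoc k A H H).symm
      (a ⊗ₜ[k] CoalgebraStruct.comul (R := k) (u : H))) ∈ _
    rw [← ht]
    clear ht
    induction t with
    | zero => simp
    | add x y hx hy => simp only [map_add, tmul_add]; exact Submodule.add_mem _ hx hy
    | tmul p q =>
      refine ⟨K191.Integral.ret A α (a ⊗ₜ p) ⊗ₜ q, ?_⟩
      simp [inc]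

/-- finiteness over the invariants -/
theorem finite_iso {α : H →ₗ[k] k} (hα : NInt α) [IsNoetherianRing A] [Module.Finite k U] :
    Module.Finite (GLin.invariants k H A) (iso A U) := by
  classical
  rw [Module.Finite.iff_fg]
  have h1 : (Submodule.span A (cc U '' (iso A U : Set A))).FG := IsNoetherian.noetherian _
  obtain ⟨T, hT, hT'⟩ := (Submodule.fg_span_iff_fg_span_finset_subset _).1 h1
  have hch : ∀ t : A ⊗[k] U, ∃ x : A, t ∈ T → x ∈ iso A U ∧ cc U x = t := by
    intro t
    by_cases ht : t ∈ T
    · obtain ⟨x, hx, hx'⟩ := hT ht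
      exact ⟨x, fun _ => ⟨hx, hx'⟩⟩
    · exact ⟨0, fun h => absurd h ht⟩
  choose xx hxx using hch
  refine ⟨T.image xx, le_antisymm (Submodule.span_le.2 ?_) ?_⟩
  · intro y hy
    obtain ⟨t, ht, rfl⟩ := Finset.mem_image.1 (Finset.mem_coe.1 hy)
    exact (hxx t ht).1
  intro x hx
  have h2 : cc U x ∈ Submodule.span A (T : Set (A ⊗[k] U)) :=
    hT' ▸ Submodule.subset_span ⟨x, hx, rfl⟩
  obtain ⟨f, -, hf⟩ := Submodule.mem_span_finset.1 h2
  have h3 : x = ∑ t ∈ T, (⟨rey A α (f t), rey_mem hα _⟩ : GLin.invariants k H A) • xx t := by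
    have h6 : ∀ t ∈ T, K191.Integral.ret A α (inc A U (f t • t)) =
        (⟨rey A α (f t), rey_mem hα _⟩ : GLin.invariants k H A) • xx t := by
      intro t ht
      obtain ⟨h4, h5⟩ := hxx t ht
      have h7 := ret_smul_cc (U := U) α (f t) h4
      rw [h5] at h7
      exact h7
    rw [← Finset.sum_congr rfl h6, ← map_sum, ← map_sum, hf, ret_cc hα hx]
  rw [h3]
  exact Submodule.sum_mem _ fun t ht => Submodule.smul_mem _ _
    (Submodule.subset_span (Finset.mem_coe.2 (Finset.mem_image_of_mem _ ht)))

/-- the invariants of a Noetherian `G`-algebra are Noetherian -/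
theorem isNoetherianRing_invariants {α : H →ₗ[k] k} (hα : NInt α) [IsNoetherianRing A] :
    IsNoetherianRing (GLin.invariants k H A) := by
  classical
  rw [isNoetherianRing_iff_ideal_fg]
  intro I
  have h1 : (Submodule.span A ((GLin.invariants k H A).val '' (I : Set _))).FG :=
    IsNoetherian.noetherian _
  obtain ⟨T, hT, hT'⟩ := (Submodule.fg_span_iff_fg_span_finset_subset _).1 h1
  have hch : ∀ t : A, ∃ x : GLin.invariants k H A, t ∈ T → x ∈ I ∧ (x : A) = t := by
    intro t
    by_cases ht : t ∈ T
    · obtain ⟨x, hx, hx'⟩ := hT ht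
      exact ⟨x, fun _ => ⟨hx, hx'⟩⟩
    · exact ⟨0, fun h => absurd h ht⟩
  choose xx hxx using hch
  refine ⟨T.image xx, le_antisymm (Submodule.span_le.2 ?_) ?_⟩
  · intro y hy
    obtain ⟨t, ht, rfl⟩ := Finset.mem_image.1 (Finset.mem_coe.1 hy)
    exact (hxx t ht).1
  intro x hx
  have h2 : (x : A) ∈ Submodule.span A (T : Set A) := hT' ▸ Submodule.subset_span ⟨x, hx, rfl⟩
  obtain ⟨f, -, hf⟩ := Submodule.mem_span_finset.1 h2
  have h3 : (x : A) = ∑ t ∈ T, rey A α (f t) * (xx t : A) := by
    rw [← rey_eq_self hα x.2, ← hf, map_sum]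
    refine Finset.sum_congr rfl fun t ht => ?_
    obtain ⟨h4, h5⟩ := hxx t ht
    have h7 := rey_mul' α (xx t).2 (f t)
    rw [smul_eq_mul, h5]
    rw [h5] at h7
    exact h7
  have h4 : x = ∑ t ∈ T, (⟨rey A α (f t), rey_mem hα _⟩ : GLin.invariants k H A) • xx t := by
    apply Subtype.ext
    rw [AddSubmonoidClass.coe_finsetSum]
    exact h3
  rw [h4]
  refine Submodule.sum_mem _ fun t ht => ?_
  exact Submodule.smul_mem _ _
    (Submodule.subset_span (Finset.mem_coe.2 (Finset.mem_image_of_mem _ ht)))

end iso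

end K881.Typ
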